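import Cfsg.Agent.Lib.Frobenius.Nilpotent
import Cfsg.Agent.Lib.ThompsonNPC.Thompson

/-!
Thompson: the Frobenius kernel is nilpotent, unconditionally.
-/

set_option autoImplicit false

namespace Cfsg.Agent.Lib.Frobenius

universe u

theorem npcCriterion : Coprime.NPCCriterion.{u} := fun _ _ _ _ _ hp P hJ hZ =>
  ThompsonNPC.hasNormalPComplement_of_thompson hp P hJ hZ

/-- The Frobenius kernel is a nilpotent normal subgroup. -/
theorem kernel_isNilpotent {G : Type u} [Group G] [Finite G] {H : Subgroup G}
    (hH : Cfsg.IsFrobeniusComplement H) :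
    ∃ N : Subgroup G, (N : Set G) = Cfsg.frobeniusKernel H ∧ N.Normal ∧
      Group.IsNilpotent N :=
  kernel_isNilpotent_of_criterion npcCriterion hH

/-- A normal subgroup equal to the Frobenius kernel is nilpotent. -/
theorem isNilpotent_of_eq_kernel {G : Type u} [Group G] [Finite G] {H N : Subgroup G}
    (hH : Cfsg.IsFrobeniusComplement H) (hN : Cfsg.frobeniusKernel H = (N : Set G)) :
    Group.IsNilpotent N := by
  obtain ⟨M, hM, -, hnil⟩ := kernel_isNilpotent hH
  obtain rfl : M = N := SetLike.coe_injective (hM.trans hN)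
  exact hnil

end Cfsg.Agent.Lib.Frobenius
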