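import Cfsg.Agent.Lib.Frobenius.Kernel
import Cfsg.Agent.Lib.Frobenius.FPF

/-!
Which abstract groups occur as Frobenius complements: a nontrivial finite `G` does iff there is a
nonzero `f : G → ℚ` whose sums over all left cosets of all subgroups of prime order vanish.
-/

set_option autoImplicit false

namespace Cfsg.Agent.Lib.Frobenius

open scoped Pointwise

/-- `G` is isomorphic to a Frobenius complement of some finite group. -/
def OccursAsComplement (G : Type*) [Group G] : Prop :=
  ∃ (L : Type) (_ : Group L) (_ : Finite L) (H : Subgroup L),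
    Cfsg.IsFrobeniusComplement H ∧ Nonempty (G ≃* H)

/-- All sums over left cosets of subgroups of prime order vanish. -/
def IsFPFFun {G M : Type*} [Group G] [AddCommMonoid M] (f : G → M) : Prop :=
  ∀ u : G, (orderOf u).Prime → ∀ g : G, ∑ j ∈ Finset.range (orderOf u), f (g * u ^ j) = 0

variable {G : Type*} [Group G]

theorem IsFPFFun.comp {M N : Type*} [AddCommMonoid M] [AddCommMonoid N] {f : G → M}
    (hf : IsFPFFun f) (φ : M →+ N) : IsFPFFun fun g => φ (f g) := fun u hu g => by
  rw [← map_sum, hf u hu g, map_zero]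

theorem IsFPFFun.mul_left {M : Type*} [AddCommMonoid M] {f : G → M} (hf : IsFPFFun f) (h : G) :
    IsFPFFun fun g => f (h * g) := fun u hu g => by
  simpa [mul_assoc] using hf u hu (h * g)

/-- A multiplicative map `G → M` into a ring with vanishing sums over prime order subgroups. -/
theorem isFPFFun_of_monoidHom {M : Type*} [Semiring M] (ρ : G →* M)
    (h : ∀ u : G, (orderOf u).Prime → ∑ j ∈ Finset.range (orderOf u), ρ u ^ j = 0) :
    IsFPFFun fun g => ρ g := fun u hu g => by
  simp only [map_mul, map_pow, ← Finset.mul_sum, h u hu, mul_zero]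

/-- Semidirect products by fixed-point-free actions are Frobenius groups. -/
theorem exists_isFrobeniusComplement_of_hom [Finite G] [Nontrivial G] {V : Type*} [Group V]
    [Finite V] [Nontrivial V] (φ : G →* MulAut V)
    (hf : ∀ g : G, g ≠ 1 → ∀ v : V, φ g v = v → v = 1) :
    ∃ (L : Type) (_ : Group L) (_ : Finite L) (H : Subgroup L),
      Cfsg.IsFrobeniusComplement H ∧ Nonempty (G ≃* H) ∧
      Nat.card (Cfsg.frobeniusKernel H) = Nat.card V := by
  have : Finite (V ⋊[φ] G) := Finite.of_equiv _ SemidirectProduct.equivProd.symm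
  obtain ⟨n, ⟨e⟩⟩ := Finite.exists_equiv_fin (V ⋊[φ] G)
  let ψ : (V ⋊[φ] G) →* Equiv.Perm (Fin n) :=
    (Equiv.permCongrHom e).toMonoidHom.comp (MulAction.toPermHom (V ⋊[φ] G) (V ⋊[φ] G))
  have hψ : Function.Injective ψ :=
    (Equiv.permCongrHom e).injective.comp MulAction.toPerm_injective
  let m : (V ⋊[φ] G) ≃* ψ.range := MonoidHom.ofInjective hψ
  let K : Subgroup ψ.range := (m.toMonoidHom.comp SemidirectProduct.inl).range
  let H : Subgroup ψ.range := (m.toMonoidHom.comp SemidirectProduct.inr).range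
  have hinjl : Function.Injective (m.toMonoidHom.comp (SemidirectProduct.inl (φ := φ))) :=
    m.injective.comp SemidirectProduct.inl_injective
  have hinjr : Function.Injective (m.toMonoidHom.comp (SemidirectProduct.inr (φ := φ))) :=
    m.injective.comp SemidirectProduct.inr_injective
  have hcardK : Nat.card K = Nat.card V :=
    Nat.card_congr (MonoidHom.ofInjective hinjl).toEquiv.symm
  have hcardH : Nat.card H = Nat.card G :=
    Nat.card_congr (MonoidHom.ofInjective hinjr).toEquiv.symm
  have hdec : ∀ x : ψ.range, ∃ (v : V) (g : G),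
      x = m (SemidirectProduct.inl v) * m (SemidirectProduct.inr g) := fun x => by
    refine ⟨(m.symm x).left, (m.symm x).right, ?_⟩
    rw [← map_mul, SemidirectProduct.inl_left_mul_inr_right, MulEquiv.apply_symm_apply]
  have hK : K.Normal := by
    have hr : K = (SemidirectProduct.rightHom.comp m.symm.toMonoidHom).ker := by
      ext x
      constructor
      · rintro ⟨v, rfl⟩
        simp [MonoidHom.mem_ker]
      · intro hx
        refine ⟨(m.symm x).left, ?_⟩
        have hx' : (m.symm x).right = 1 := hx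
        have : SemidirectProduct.inl (m.symm x).left = m.symm x := by
          ext <;> simp [hx']
        simp [this]
    rw [hr]; infer_instance
  have hc : Subgroup.IsComplement' K H := by
    refine Subgroup.isComplement'_of_disjoint_and_mul_eq_univ ?_ ?_
    · rw [Subgroup.disjoint_def]
      rintro x ⟨v, rfl⟩ ⟨g, hg⟩
      have h1 := congrArg SemidirectProduct.left (m.injective hg)
      simp at h1
      rw [← h1, map_one]
    · refine Set.eq_univ_of_forall fun x => ?_
      obtain ⟨v, g, rfl⟩ := hdec x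
      exact ⟨_, ⟨v, rfl⟩, _, ⟨g, rfl⟩, rfl⟩
  have hF : Cfsg.IsFrobeniusComplement H := by
    refine isFrobeniusComplement_of_fpf hc ?_ ?_ ?_
    · rw [← Subgroup.one_lt_card_iff_ne_bot, hcardK]; exact Finite.one_lt_card
    · rw [← Subgroup.one_lt_card_iff_ne_bot, hcardH]; exact Finite.one_lt_card
    · rintro _ ⟨g, rfl⟩ hg1
      rw [eq_bot_iff]
      intro x hx
      obtain ⟨⟨v, rfl⟩, hx2⟩ := Subgroup.mem_inf.mp hx
      rw [Subgroup.mem_centralizer_singleton_iff] at hx2
      have h' : (SemidirectProduct.inl v : V ⋊[φ] G) * SemidirectProduct.inr g =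
          SemidirectProduct.inr g * SemidirectProduct.inl v := by
        apply m.injective
        simpa using hx2
      have hv : φ g v = v := by
        have := congrArg SemidirectProduct.left h'
        simpa using this.symm
      have : v = 1 := hf g (fun e1 => hg1 (by simp [e1])) v hv
      simp [this]
  refine ⟨ψ.range, inferInstance, inferInstance, H, hF, ⟨MonoidHom.ofInjective hinjr⟩, ?_⟩
  rw [card_frobeniusKernel hF, hc.index_eq_card, hcardK]

/-- A nonzero function to `ZMod r` (`r` prime to `|G|`) with vanishing coset sums gives a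
Frobenius group. -/
theorem occursAsComplement_of_fun_zmod [Finite G] [Nontrivial G] {r : ℕ} (hr : r.Prime)
    (hrG : ¬ r ∣ Nat.card G) {f : G → ZMod r} (hf : IsFPFFun f) (h0 : f ≠ 0) :
    OccursAsComplement G := by
  have := Fact.mk hr
  let V : AddSubgroup (G → ZMod r) :=
    { carrier := {f | IsFPFFun f}
      zero_mem' := fun u _ g => by simp
      add_mem' := fun {a b} (ha : IsFPFFun a) (hb : IsFPFFun b) u hu g => by
        simp [Finset.sum_add_distrib, ha u hu g, hb u hu g]
      neg_mem' := fun {a} (ha : IsFPFFun a) u hu g => by simp [ha u hu g] }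
  have : Nontrivial V := ⟨⟨⟨f, hf⟩, 0, fun e => h0 (congrArg Subtype.val e)⟩⟩
  let T : G → Multiplicative V → Multiplicative V := fun h v =>
    Multiplicative.ofAdd ⟨fun g => (Multiplicative.toAdd v).1 (h⁻¹ * g),
      IsFPFFun.mul_left (Multiplicative.toAdd v).2 h⁻¹⟩
  have hT1 : ∀ v, T 1 v = v := fun v => by
    apply Multiplicative.toAdd.injective
    apply Subtype.ext
    funext g
    simp [T]
  have hTT : ∀ a b v, T a (T b v) = T (a * b) v := fun a b v => by
    apply Multiplicative.toAdd.injective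
    apply Subtype.ext
    funext g
    simp [T, mul_assoc]
  let φ : G →* MulAut (Multiplicative V) :=
    { toFun := fun h =>
        { toFun := T h
          invFun := T h⁻¹
          left_inv := fun v => by rw [hTT, inv_mul_cancel, hT1]
          right_inv := fun v => by rw [hTT, mul_inv_cancel, hT1]
          map_mul' := fun v w => rfl }
      map_one' := MulEquiv.ext hT1
      map_mul' := fun a b => MulEquiv.ext fun v => (hTT a b v).symm }
  suffices hfree : ∀ h : G, h ≠ 1 → ∀ v : Multiplicative V, φ h v = v → v = 1 by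
    obtain ⟨L, i1, i2, H, hH, he, -⟩ := exists_isFrobeniusComplement_of_hom φ hfree
    exact ⟨L, i1, i2, H, hH, he⟩
  intro h hh v hv
  set p := (orderOf h).minFac
  have hp : p.Prime := Nat.minFac_prime (fun e => hh (orderOf_eq_one_iff.mp e))
  set u := h ^ (orderOf h / p) with hu
  have hou : orderOf u = p := orderOf_pow_orderOf_div (orderOf_pos h).ne' (Nat.minFac_dvd _)
  set a := (Multiplicative.toAdd v).1
  have hfix1 : ∀ g, a (h⁻¹ * g) = a g := fun g =>
    congrFun (congrArg Subtype.val (congrArg Multiplicative.toAdd hv)) g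
  have hfix : ∀ (j : ℕ) g, a (h ^ j * g) = a g := by
    intro j
    induction j with
    | zero => simp
    | succ j ih =>
      intro g
      rw [← ih g, ← hfix1 (h ^ (j + 1) * g), pow_succ']
      simp [mul_assoc]
  apply Multiplicative.toAdd.injective
  apply Subtype.ext
  funext g
  have hou' : orderOf (g⁻¹ * u * g) = p := by
    rw [← hou]
    exact orderOf_injective (MulAut.conj g⁻¹).toMonoidHom (MulAut.conj g⁻¹).injective u ▸ by
      simp [MulAut.conj_apply]
  have hs := (Multiplicative.toAdd v).2 (g⁻¹ * u * g) (hou'.symm ▸ hp) g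
  have hterm : ∀ j : ℕ, a (g * (g⁻¹ * u * g) ^ j) = a g := by
    intro j
    have e : g * (g⁻¹ * u * g) ^ j = u ^ j * g := by
      induction j with
      | zero => simp
      | succ j ih => rw [pow_succ, ← mul_assoc, ih, pow_succ]; group
    rw [e, hu, ← pow_mul, hfix]
  simp only [hterm, Finset.sum_const, Finset.card_range, hou', nsmul_eq_mul, mul_eq_zero,
    a] at hs
  rcases hs with hs | hs
  · exfalso
    rw [ZMod.natCast_eq_zero_iff] at hs
    exact hrG ((Nat.prime_dvd_prime_iff_eq hr hp).mp hs ▸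
      hou ▸ orderOf_dvd_natCard u)
  · exact hs

/-- An integral form of a rational function with vanishing sums. -/
theorem exists_zmod_of_rat [Finite G] {f : G → ℚ} (hf : IsFPFFun f) (h0 : f ≠ 0) {r : ℕ}
    (hr : r.Prime) : ∃ f' : G → ZMod r, IsFPFFun f' ∧ f' ≠ 0 := by
  classical
  have : Fintype G := Fintype.ofFinite G
  have key : ∀ (F : G → ℤ) (g₀ : G), IsFPFFun F → F g₀ ≠ 0 →
      ∃ f' : G → ZMod r, IsFPFFun f' ∧ f' ≠ 0 := by
    intro F g₀ hF hg₀
    induction hn : (F g₀).natAbs using Nat.strong_induction_on generalizing F with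
    | _ n ih =>
      by_cases hd : ∀ g, (r : ℤ) ∣ F g
      · choose F' hF' using hd
        refine ih (F' g₀).natAbs ?_ F' (fun u hu g => ?_) (fun e => hg₀ (by rw [hF', e, mul_zero])) rfl
        · have hpos : 0 < (F' g₀).natAbs :=
            Int.natAbs_pos.mpr fun e => hg₀ (by rw [hF', e, mul_zero])
          rw [← hn, hF', Int.natAbs_mul, Int.natAbs_natCast]
          exact lt_mul_of_one_lt_left hpos hr.one_lt
        · have h := hF u hu g
          simp only [hF', ← Finset.mul_sum, mul_eq_zero] at h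
          exact h.resolve_left (by exact_mod_cast hr.ne_zero)
      · push Not at hd
        obtain ⟨g, hg⟩ := hd
        refine ⟨fun x => (F x : ZMod r), hF.comp (Int.castAddHom (ZMod r)), fun e => hg ?_⟩
        exact (ZMod.intCast_zmod_eq_zero_iff_dvd _ _).mp (congrFun e g)
  obtain ⟨g₀, hg₀⟩ := Function.ne_iff.mp h0
  let N : ℕ := ∏ g : G, (f g).den
  have hN : ∀ g, ∃ z : ℤ, (z : ℚ) = (N : ℚ) * f g := by
    intro g
    obtain ⟨c, hc⟩ := Finset.dvd_prod_of_mem (fun g : G => (f g).den) (Finset.mem_univ g)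
    refine ⟨(f g).num * c, ?_⟩
    rw [show N = (f g).den * c from hc]
    push_cast
    rw [← Rat.den_mul_eq_num (f g)]
    ring
  choose F hF using hN
  refine key F g₀ (fun u hu g => ?_) ?_
  · have h := hf u hu g
    have : ((∑ j ∈ Finset.range (orderOf u), F (g * u ^ j) : ℤ) : ℚ) = 0 := by
      push_cast
      simp only [hF, ← Finset.mul_sum, h, mul_zero]
    exact_mod_cast this
  · intro e
    have := hF g₀
    rw [e, Int.cast_zero, eq_comm, mul_eq_zero] at this
    rcases this with h | h
    · exact Finset.prod_ne_zero_iff.mpr (fun g _ => (f g).den_nz) (by exact_mod_cast h)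
    · exact hg₀ h

/-- A function into any `ℚ`-vector space will do. -/
theorem occursAsComplement_of_fun [Finite G] [Nontrivial G] {M : Type*} [AddCommGroup M]
    [Module ℚ M] {f : G → M} (hf : IsFPFFun f) (h0 : f ≠ 0) : OccursAsComplement G := by
  obtain ⟨g₀, hg₀⟩ := Function.ne_iff.mp h0
  obtain ⟨φ, hφ⟩ := exists_isFPFFun_dual (M := M) hg₀
  obtain ⟨r, hrgt, hr⟩ := Nat.exists_infinite_primes (Nat.card G + 1)
  obtain ⟨f', hf', h0'⟩ := exists_zmod_of_rat (hf.comp φ.toAddMonoidHom)
    (fun e => hφ (congrFun e g₀)) hr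
  exact occursAsComplement_of_fun_zmod hr
    (fun h => absurd (Nat.le_of_dvd Nat.card_pos h) (by omega)) hf' h0'
where
  exists_isFPFFun_dual {M : Type _} [AddCommGroup M] [Module ℚ M] {x : M} (hx : x ≠ 0) :
      ∃ φ : M →ₗ[ℚ] ℚ, φ x ≠ 0 := by
    by_contra h
    push Not at h
    exact hx ((Module.forall_dual_apply_eq_zero_iff ℚ x).mp h)

/-- Inside a Frobenius group some complement acts fixed-point-freely on an elementary abelian
subgroup of the kernel. -/
theorem exists_fpf_elementary [Finite G] {H : Subgroup G} (hH : Cfsg.IsFrobeniusComplement H)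
    {r : ℕ} (hr : r.Prime) (hrK : r ∣ Nat.card (Cfsg.frobeniusKernel H)) :
    ∃ (C V : Subgroup G), Nonempty (H ≃* C) ∧ C ≤ Subgroup.normalizer (V : Set G) ∧
      IsMulCommutative V ∧ V ≠ ⊥ ∧ (∀ v ∈ V, v ^ r = 1) ∧
      ∀ c ∈ C, c ≠ 1 → V ⊓ Subgroup.centralizer {c} = ⊥ := by
  classical
  have := Fact.mk hr
  obtain ⟨N, hNeq, hN, hc⟩ := exists_kernel hH
  have := hN
  have hrN : r ∣ Nat.card N := by rwa [← hNeq] at hrK
  have hcop : (Nat.card H).Coprime (Nat.card N) := hc.index_eq_card ▸ coprime_card_index hH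
  let Q : Sylow r N := default
  let R : Subgroup G := (Q : Subgroup N).map N.subtype
  set M := Subgroup.normalizer (R : Set G)
  have hfr : M ⊔ N = ⊤ := Sylow.normalizer_sup_eq_top Q
  let π := QuotientGroup.mk' N
  have hsurj : Function.Surjective (π.comp M.subtype) := by
    intro q
    obtain ⟨x, rfl⟩ := QuotientGroup.mk'_surjective N q
    have hx : x ∈ ((M : Set G) * (N : Set G)) := by
      rw [← Subgroup.mul_normal, hfr]; trivial
    obtain ⟨y, hy, z, hz, rfl⟩ := hx
    refine ⟨⟨y, hy⟩, ?_⟩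
    show π y = π (y * z)
    rw [map_mul, show π z = 1 from (QuotientGroup.eq_one_iff z).mpr hz, mul_one]
  let K : Subgroup M := (π.comp M.subtype).ker
  have hKidx : K.index = Nat.card H := by
    rw [Subgroup.index_ker, MonoidHom.range_eq_top.mpr hsurj, Subgroup.card_top]
    exact hc.symm.index_eq_card
  have hKdvd : Nat.card K ∣ Nat.card N := by
    refine Subgroup.card_dvd_of_injective
      (((M.subtype).comp K.subtype).codRestrict N fun x => ?_) ?_
    · exact (QuotientGroup.eq_one_iff _).mp x.2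
    · intro a b e
      exact Subtype.ext (Subtype.ext (congrArg Subtype.val e :))
  obtain ⟨C₀, hC₀⟩ := Subgroup.exists_right_complement'_of_coprime (N := K)
    (hKidx ▸ hcop.symm.coprime_dvd_left hKdvd)
  let C := C₀.map M.subtype
  have hCM : C ≤ M := Subgroup.map_subtype_le _
  have hCcard : Nat.card C = Nat.card H := by
    rw [Subgroup.card_map_of_injective M.subtype_injective, ← hKidx, hC₀.symm.index_eq_card]
  have hCN : C ⊓ N = ⊥ := Subgroup.inf_eq_bot_of_coprime (by rw [hCcard]; exact hcop)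
  have hiso : ∀ X : Subgroup G, X ⊓ N = ⊥ → Nat.card X = Nat.card H →
      Nonempty (X ≃* G ⧸ N) := by
    intro X hX hcard
    have hinj : Function.Injective (π.comp X.subtype) := by
      rw [← MonoidHom.ker_eq_bot_iff, eq_bot_iff]
      intro x hx
      have : (x : G) ∈ X ⊓ N := Subgroup.mem_inf.mpr ⟨x.2, (QuotientGroup.eq_one_iff _).mp hx⟩
      rw [hX, Subgroup.mem_bot] at this
      exact Subgroup.mem_bot.mpr (Subtype.ext this)
    exact ⟨MulEquiv.ofBijective _ (hinj.bijective_of_nat_card_le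
      (by rw [hcard]; exact hc.symm.index_eq_card.le))⟩
  obtain ⟨e1⟩ := hiso C hCN hCcard
  obtain ⟨e2⟩ := hiso H (by rw [inf_comm]; exact disjoint_iff.mp hc.disjoint) rfl
  let Z : Subgroup G :=
    { carrier := {x | (x ∈ R ∧ x ∈ Subgroup.centralizer (R : Set G)) ∧ x ^ r = 1}
      one_mem' := ⟨⟨one_mem _, one_mem _⟩, one_pow r⟩
      mul_mem' := fun {a b} ha hb => ⟨⟨mul_mem ha.1.1 hb.1.1, mul_mem ha.1.2 hb.1.2⟩, by
        have hab : Commute a b := (Subgroup.mem_centralizer_iff.mp hb.1.2 a ha.1.1)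
        rw [hab.mul_pow, ha.2, hb.2, one_mul]⟩
      inv_mem' := fun {a} ha => ⟨⟨inv_mem ha.1.1, inv_mem ha.1.2⟩, by rw [inv_pow, ha.2, inv_one]⟩ }
  refine ⟨C, Z, ⟨e2.trans e1.symm⟩, ?_, ⟨⟨fun a b => Subtype.ext
    (Subgroup.mem_centralizer_iff.mp b.2.1.2 a a.2.1.1)⟩⟩, ?_, fun v hv => hv.2, ?_⟩
  · have hstep : ∀ c ∈ C, ∀ x ∈ Z, c * x * c⁻¹ ∈ Z := by
      intro c hc x hx
      have hn := Subgroup.mem_normalizer_iff.mp (hCM hc)
      refine ⟨⟨(hn x).mp hx.1.1, Subgroup.mem_centralizer_iff.mpr fun y hy => ?_⟩, by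
        rw [conj_pow, hx.2]; simp⟩
      have hy' : c⁻¹ * y * c ∈ R := (hn _).mpr (by simpa [mul_assoc] using hy)
      have h2 := Subgroup.mem_centralizer_iff.mp hx.1.2 _ hy'
      calc y * (c * x * c⁻¹) = c * ((c⁻¹ * y * c) * x) * c⁻¹ := by group
        _ = c * (x * (c⁻¹ * y * c)) * c⁻¹ := by rw [h2]
        _ = _ := by group
    intro c hc
    rw [Subgroup.mem_normalizer_iff]
    refine fun x => ⟨hstep c hc x, fun hx => ?_⟩
    simpa [mul_assoc] using hstep c⁻¹ (inv_mem hc) _ hx
  · have hR1 : R ≠ ⊥ := fun e => Q.ne_bot_of_dvd_card hrN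
      ((Subgroup.map_eq_bot_iff_of_injective _ N.subtype_injective).mp e)
    have : Nontrivial R := (Subgroup.nontrivial_iff_ne_bot R).mpr hR1
    have hRp : IsPGroup r R := Q.isPGroup'.map _
    obtain ⟨k, hk, hcard⟩ :=
      (hRp.to_subgroup (Subgroup.center R)).nontrivial_iff_card.mp hRp.center_nontrivial
    obtain ⟨z, hz⟩ := exists_prime_orderOf_dvd_card' (G := Subgroup.center R) r
      (hcard ▸ dvd_pow_self r hk.ne')
    intro e
    have hzr : ((z : R) : G) ^ r = 1 := by
      rw [← Subgroup.coe_pow, ← Subgroup.coe_pow, orderOf_dvd_iff_pow_eq_one.mp hz.dvd]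
      rfl
    have hzZ : ((z : R) : G) ∈ Z := ⟨⟨(z : R).2, Subgroup.mem_centralizer_iff.mpr fun y hy =>
      congrArg Subtype.val (Subgroup.mem_center_iff.mp z.2 ⟨y, hy⟩)⟩, hzr⟩
    rw [e, Subgroup.mem_bot] at hzZ
    rw [(Subtype.ext (Subtype.ext hzZ) : z = 1), orderOf_one] at hz
    exact hr.one_lt.ne hz
  · intro c hcC hc1
    rw [eq_bot_iff]
    intro n hn
    obtain ⟨hn1, hn2⟩ := Subgroup.mem_inf.mp hn
    have hnN : n ∈ N := Subgroup.map_subtype_le _ hn1.1.1
    have hcN : c ∉ N := fun h => hc1 (Subgroup.mem_bot.mp (hCN ▸ Subgroup.mem_inf.mpr ⟨hcC, h⟩))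
    have hcK : c ∉ Cfsg.frobeniusKernel H := by rw [← hNeq]; exact hcN
    rw [mem_frobeniusKernel_iff, not_or, not_forall] at hcK
    obtain ⟨-, g, hg⟩ := hcK
    rw [not_not] at hg
    rw [Subgroup.mem_centralizer_singleton_iff] at hn2
    have h3 : g⁻¹ * n * g ∈ H := centralizer_le hH hg (fun e1 => hc1 (by
        calc c = g * (g⁻¹ * c * g) * g⁻¹ := by group
          _ = 1 := by rw [e1]; group))
      (Subgroup.mem_centralizer_singleton_iff.mpr (by
        calc g⁻¹ * n * g * (g⁻¹ * c * g) = g⁻¹ * (n * c) * g := by group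
          _ = g⁻¹ * (c * n) * g := by rw [hn2]
          _ = _ := by group))
    have h4 : g⁻¹ * n * g = 1 := by
      refine eq_one_of_mem_frobeniusKernel ?_ h3
      rw [← hNeq]
      simpa using Subgroup.Normal.conj_mem hN n hnN g⁻¹
    rw [Subgroup.mem_bot]
    calc n = g * (g⁻¹ * n * g) * g⁻¹ := by group
      _ = 1 := by rw [h4]; group

/-- Lift of a representation with vanishing sums from `ZMod r` to `ZMod (r ^ k)`. -/
theorem exists_matrix_lift [Finite G] {r : ℕ} (hr : r.Prime) (hrG : ¬ r ∣ Nat.card G) {n k : ℕ}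
    (hk : 0 < k) (ρ : G →* Matrix (Fin n) (Fin n) (ZMod r))
    (hρ : ∀ u : G, (orderOf u).Prime → ∑ j ∈ Finset.range (orderOf u), ρ u ^ j = 0) :
    ∃ τ : G →* Matrix (Fin n) (Fin n) (ZMod (r ^ k)),
      ∀ u : G, (orderOf u).Prime → ∑ j ∈ Finset.range (orderOf u), τ u ^ j = 0 := by
  classical
  have := Fact.mk hr
  have : NeZero (r ^ k) := ⟨(pow_pos hr.pos k).ne'⟩
  let c : ZMod (r ^ k) →+* ZMod r := ZMod.castHom (dvd_pow_self r hk.ne') _
  let cm : Matrix (Fin n) (Fin n) (ZMod (r ^ k)) →+* Matrix (Fin n) (Fin n) (ZMod r) :=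
    c.mapMatrix
  have hker : ∀ X, cm X = 0 → ∃ Y, X = r • Y := by
    intro X hX
    refine ⟨Matrix.of fun i j => (((X i j).val / r : ℕ) : ZMod (r ^ k)), ?_⟩
    ext i j
    have h : c (X i j) = 0 := congrFun (congrFun hX i) j
    rw [← ZMod.natCast_zmod_val (X i j), map_natCast, ZMod.natCast_eq_zero_iff] at h
    simp only [Matrix.smul_apply, Matrix.of_apply, nsmul_eq_mul, ← Nat.cast_mul,
      Nat.mul_div_cancel' h, ZMod.natCast_zmod_val]
  have hpow : (r : Matrix (Fin n) (Fin n) (ZMod (r ^ k))) ^ k = 0 := by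
    rw [← Nat.cast_pow, ← Matrix.diagonal_natCast, ZMod.natCast_self, Matrix.diagonal_zero]
  let u₁ := Units.map (cm : Matrix (Fin n) (Fin n) (ZMod (r ^ k)) →* Matrix (Fin n) (Fin n) (ZMod r))
  let ρu : G →* (Matrix (Fin n) (Fin n) (ZMod r))ˣ := ρ.toHomUnits
  have hlift : ∀ g : G, ∃ A : (Matrix (Fin n) (Fin n) (ZMod (r ^ k)))ˣ, u₁ A = ρu g := by
    intro g
    choose a ha using fun i j => ZMod.castHom_surjective (dvd_pow_self r hk.ne') (ρ g i j)
    have hA : cm (Matrix.of a) = ρ g := by ext i j; exact ha i j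
    have hu : IsUnit (Matrix.of a) := by
      rw [Matrix.isUnit_iff_isUnit_det]
      have h1 : c (Matrix.of a).det = (ρ g).det := by rw [RingHom.map_det, ← hA]
      have h2 : (ρ g).det ≠ 0 := fun e => by
        have := (Matrix.isUnit_iff_isUnit_det _).mp (ρu g).isUnit
        rw [show ((ρu g : Matrix (Fin n) (Fin n) (ZMod r))) = ρ g from rfl, e] at this
        exact not_isUnit_zero this
      rw [← ZMod.natCast_zmod_val (Matrix.of a).det] at h1 ⊢
      rw [ZMod.isUnit_iff_coprime, Nat.coprime_pow_right_iff hk, Nat.coprime_comm,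
        hr.coprime_iff_not_dvd, ← ZMod.natCast_eq_zero_iff]
      rwa [map_natCast, ← h1] at *
    exact ⟨hu.unit, Units.ext hA⟩
  -- the group of lifts is an extension of `ρ(G)` by an `r`-group
  let S : Subgroup (Matrix (Fin n) (Fin n) (ZMod (r ^ k)))ˣ := ρu.range.comap u₁
  let θ : S →* ρu.range := (u₁.comp S.subtype).codRestrict _ fun x => x.2
  have hθ : Function.Surjective θ := by
    rintro ⟨_, g, rfl⟩
    obtain ⟨A, hA⟩ := hlift g
    exact ⟨⟨A, ⟨g, hA.symm⟩⟩, Subtype.ext hA⟩
  have hP : IsPGroup r θ.ker := by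
    intro x
    refine ⟨k, Subtype.ext (Subtype.ext (Units.ext ?_))⟩
    set X : Matrix (Fin n) (Fin n) (ZMod (r ^ k)) :=
      Units.val ((x : S) : (Matrix (Fin n) (Fin n) (ZMod (r ^ k)))ˣ) with hXdef
    have hx : cm X = 1 := congrArg (fun y : ρu.range => ((y : (Matrix (Fin n) (Fin n) (ZMod r))ˣ) :
      Matrix (Fin n) (Fin n) (ZMod r))) x.2
    have hstep : ∀ i, ∃ Y, X ^ r ^ i - 1 = (r : Matrix (Fin n) (Fin n) (ZMod (r ^ k))) ^ (i + 1) * Y := by
      intro i
      induction i with
      | zero =>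
        obtain ⟨Y, hY⟩ := hker (X - 1) (by rw [map_sub, map_one, hx, sub_self])
        exact ⟨Y, by simpa [nsmul_eq_mul] using hY⟩
      | succ i ih =>
        obtain ⟨Y, hY⟩ := ih
        have hg : cm (∑ j ∈ Finset.range r, (X ^ r ^ i) ^ j) = 0 := by
          simp only [map_sum, map_pow, hx, one_pow, Finset.sum_const, Finset.card_range]
          rw [nsmul_one, ← Matrix.diagonal_natCast, ZMod.natCast_self, Matrix.diagonal_zero]
        obtain ⟨W, hW⟩ := hker _ hg
        refine ⟨W * Y, ?_⟩
        rw [pow_succ r i, pow_mul, ← geom_sum_mul, hW, hY, nsmul_eq_mul,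
          pow_succ _ (i + 1)]
        rw [mul_assoc (r : Matrix (Fin n) (Fin n) (ZMod (r ^ k))), ← mul_assoc W,
          ((Nat.cast_commute r W).symm.pow_right (i + 1)).eq]
        rw [← mul_assoc, ← mul_assoc, ← mul_assoc, ← pow_succ', ← pow_succ]
    obtain ⟨Y, hY⟩ := hstep k
    rw [pow_succ', mul_assoc, hpow, zero_mul, mul_zero, sub_eq_zero] at hY
    simpa [hXdef] using hY
  have hcop : (Nat.card θ.ker).Coprime θ.ker.index := by
    obtain ⟨a, ha⟩ := hP.exists_card_eq
    rw [Subgroup.index_ker, MonoidHom.range_eq_top.mpr hθ, Subgroup.card_top, ha]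
    exact Nat.Coprime.pow_left a ((hr.coprime_iff_not_dvd).mpr fun h =>
      hrG (h.trans (Subgroup.card_range_dvd ρu)))
  obtain ⟨C, hC⟩ := Subgroup.exists_right_complement'_of_coprime hcop
  have hbij : Function.Bijective (θ.comp C.subtype) := by
    constructor
    · rw [← MonoidHom.ker_eq_bot_iff, eq_bot_iff]
      intro x hx
      have : (x : S) ∈ θ.ker ⊓ C := Subgroup.mem_inf.mpr ⟨hx, x.2⟩
      rw [disjoint_iff.mp hC.disjoint, Subgroup.mem_bot] at this
      exact Subgroup.mem_bot.mpr (Subtype.ext this)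
    · intro y
      obtain ⟨s, rfl⟩ := hθ y
      obtain ⟨⟨a, b⟩, hab⟩ := hC.2 s
      refine ⟨b, ?_⟩
      simp only at hab
      rw [MonoidHom.comp_apply, ← hab, map_mul, show θ (a : S) = 1 from a.2, one_mul]
      rfl
  let ψ : G →* C := (MulEquiv.ofBijective _ hbij).symm.toMonoidHom.comp ρu.rangeRestrict
  let τ : G →* Matrix (Fin n) (Fin n) (ZMod (r ^ k)) :=
    (Units.coeHom _).comp (S.subtype.comp (C.subtype.comp ψ))
  refine ⟨τ, fun u hu => ?_⟩
  have hτ : cm (τ u) = ρ u := by
    have h := (MulEquiv.ofBijective _ hbij).apply_symm_apply (ρu.rangeRestrict u)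
    exact congrArg (fun y : ρu.range => ((y : (Matrix (Fin n) (Fin n) (ZMod r))ˣ) :
      Matrix (Fin n) (Fin n) (ZMod r))) h
  set p := orderOf u
  set s := ∑ j ∈ Finset.range p, τ u ^ j with hs
  have hsp : s * s = p • s := by
    have h1 : τ u * s = s := by
      rw [hs, Finset.mul_sum]
      simp only [← pow_succ']
      have hup : τ u ^ p = 1 := by rw [← map_pow, pow_orderOf_eq_one, map_one]
      conv_rhs => rw [← Nat.sub_add_cancel hu.one_lt.le, Finset.sum_range_succ']
      rw [← Nat.sub_add_cancel hu.one_lt.le, Finset.sum_range_succ,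
        Nat.sub_add_cancel hu.one_lt.le, hup, pow_zero]
    have h2 : ∀ j : ℕ, τ u ^ j * s = s := by
      intro j
      induction j with
      | zero => simp
      | succ j ih => rw [pow_succ, mul_assoc, h1, ih]
    conv_lhs => arg 1; rw [hs]
    simp only [Finset.sum_mul, h2, Finset.sum_const, Finset.card_range]
  obtain ⟨Y, hY⟩ := hker s (by rw [hs, map_sum]; simp only [map_pow, hτ]; exact hρ u hu)
  have hpu : IsUnit (p : Matrix (Fin n) (Fin n) (ZMod (r ^ k))) := by
    have : IsUnit ((p : ℕ) : ZMod (r ^ k)) := by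
      rw [ZMod.isUnit_iff_coprime]
      exact (((Nat.coprime_primes hu hr).mpr fun e => hrG (e ▸ orderOf_dvd_natCard u))).pow_right k
    have h := this.map (Matrix.scalar (Fin n))
    simpa using h
  have hiter : ∀ i, ∃ W, s = (r : Matrix (Fin n) (Fin n) (ZMod (r ^ k))) ^ i * W := by
    intro i
    induction i with
    | zero => exact ⟨s, by simp⟩
    | succ i ih =>
      obtain ⟨W, hW⟩ := ih
      refine ⟨(hpu.unit⁻¹ : (Matrix (Fin n) (Fin n) (ZMod (r ^ k)))ˣ) * (W * Y), ?_⟩
      have e : (p : Matrix (Fin n) (Fin n) (ZMod (r ^ k))) * s = _ * _ :=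
        (nsmul_eq_mul p s).symm.trans (hsp.symm.trans (congrArg₂ (· * ·) hW hY))
      rw [← mul_assoc]
      apply hpu.mul_left_cancel
      rw [e]
      have hc1 : Commute (p : Matrix (Fin n) (Fin n) (ZMod (r ^ k)))
          ((r : Matrix (Fin n) (Fin n) (ZMod (r ^ k))) ^ (i + 1)) :=
        Nat.cast_commute p _
      rw [← mul_assoc _ ((r : Matrix (Fin n) (Fin n) (ZMod (r ^ k))) ^ (i + 1) * _), ← mul_assoc (p : Matrix (Fin n) (Fin n) (ZMod (r ^ k))), hc1.eq,
        mul_assoc (_ ^ (i+1)), IsUnit.mul_val_inv, mul_one, nsmul_eq_mul, pow_succ]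
      simp only [mul_assoc]
      rw [← mul_assoc W, (Nat.cast_commute r W).symm.eq, mul_assoc]
  obtain ⟨W, hW⟩ := hiter k
  rw [hW, hpow, zero_mul]

/-- A Frobenius complement carries a nonzero rational function with vanishing coset sums. -/
theorem exists_rat_fun_of_zmod [Finite G] {r n : ℕ} (hr : r.Prime) (hrG : ¬ r ∣ Nat.card G)
    (hn : 0 < n) (ρ : G →* Matrix (Fin n) (Fin n) (ZMod r))
    (hρ : ∀ u : G, (orderOf u).Prime → ∑ j ∈ Finset.range (orderOf u), ρ u ^ j = 0) :
    ∃ f : G → ℚ, IsFPFFun f ∧ f ≠ 0 := by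
  classical
  by_contra hno
  push Not at hno
  have : Fintype G := Fintype.ofFinite G
  let S : G × G → (G → ℚ) →ₗ[ℚ] ℚ := fun q =>
    if (orderOf q.2).Prime then
      ∑ j ∈ Finset.range (orderOf q.2), LinearMap.proj (q.1 * q.2 ^ j) else 0
  let Φ : (G → ℚ) →ₗ[ℚ] (G × G → ℚ) := LinearMap.pi S
  have hinj : LinearMap.ker Φ = ⊥ := by
    rw [eq_bot_iff]
    intro f hf
    refine hno f fun u hu g => ?_
    have h := congrFun hf (g, u)
    simpa [Φ, S, hu] using h
  obtain ⟨Ψ, hΨ⟩ := LinearMap.exists_leftInverse_of_injective Φ hinj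
  -- `f 1` is a rational combination of the coset sums
  let y : G × G → ℚ := fun q => Ψ (Pi.single q 1) 1
  have hy : ∀ f : G → ℚ, f 1 = ∑ q, y q * S q f := by
    intro f
    have h : Ψ (Φ f) = f := LinearMap.congr_fun hΨ f
    conv_lhs => rw [← h]
    rw [pi_eq_sum_univ (Φ f)]
    simp only [map_sum, map_smul, Finset.sum_apply, Pi.smul_apply, smul_eq_mul]
    refine Finset.sum_congr rfl fun q _ => ?_
    rw [mul_comm]
    congr 1
    simp only [y]
    refine congrFun (congrArg Ψ (funext fun j => ?_)) 1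
    simp [Pi.single_apply, eq_comm]
  let N : ℕ := ∏ q, (y q).den
  have hN : ∀ q, ∃ z : ℤ, (z : ℚ) = (N : ℚ) * y q := by
    intro q
    obtain ⟨c, hc⟩ := Finset.dvd_prod_of_mem (fun q => (y q).den) (Finset.mem_univ q)
    refine ⟨(y q).num * c, ?_⟩
    rw [show N = (y q).den * c from hc]
    push_cast
    rw [← Rat.den_mul_eq_num (y q)]
    ring
  choose z hz using hN
  have hN0 : N ≠ 0 := Finset.prod_ne_zero_iff.mpr fun q _ => (y q).den_nz
  let T : G × G → (x : G) → ℤ := fun q x =>
    if (orderOf q.2).Prime then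
      ((Finset.range (orderOf q.2)).filter fun j => q.1 * q.2 ^ j = x).card else 0
  have hid : ∀ x : G, ∑ q, z q * T q x = if x = 1 then (N : ℤ) else 0 := by
    intro x
    have h := hy (Pi.single x 1)
    have hS : ∀ q, S q (Pi.single x 1) = (T q x : ℚ) := by
      intro q
      simp only [S, T]
      split_ifs
      · simp [Pi.single_apply, Finset.sum_boole]
      · simp
    simp only [hS] at h
    have h2 : ((∑ q, z q * T q x : ℤ) : ℚ) = ((if x = 1 then (N : ℤ) else 0 : ℤ) : ℚ) := by
      push_cast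
      simp only [hz, mul_assoc, ← Finset.mul_sum]
      rw [← h, Pi.single_apply]
      rcases eq_or_ne x 1 with rfl | hx <;> simp [*, Ne.symm]
    exact_mod_cast h2
  let k := padicValNat r N + 1
  obtain ⟨τ, hτ⟩ := exists_matrix_lift hr hrG (k := k) (Nat.succ_pos _) ρ hρ
  let f : G → Matrix (Fin n) (Fin n) (ZMod (r ^ k)) := fun g => τ g
  have hf : IsFPFFun f := isFPFFun_of_monoidHom τ hτ
  have hzero : (N : ℤ) • f 1 = 0 := by
    calc (N : ℤ) • f 1 = ∑ x : G, (∑ q, z q * T q x) • f x := by
          rw [Finset.sum_eq_single 1]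
          · rw [hid, if_pos rfl]
          · intro x _ hx; rw [hid, if_neg hx, zero_smul]
          · simp
      _ = ∑ q, z q • ∑ x : G, T q x • f x := by
          simp only [Finset.sum_smul, Finset.smul_sum, mul_smul]
          rw [Finset.sum_comm]
      _ = 0 := by
          refine Finset.sum_eq_zero fun q _ => ?_
          have : ∑ x : G, T q x • f x = 0 := by
            by_cases hq : (orderOf q.2).Prime
            · simp only [T, if_pos hq, Finset.card_filter, Nat.cast_sum, Finset.sum_smul]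
              rw [Finset.sum_comm]
              refine Eq.trans (Finset.sum_congr rfl fun j _ => ?_) (hf q.2 hq q.1)
              rw [Finset.sum_eq_single (q.1 * q.2 ^ j)]
              · simp
              · intro x _ hx; simp [Ne.symm hx]
              · simp
            · simp [T, hq]
          rw [this, smul_zero]
  rw [natCast_zsmul, show f 1 = 1 from map_one τ, nsmul_one] at hzero
  have h00 := congrFun (congrFun hzero ⟨0, hn⟩) ⟨0, hn⟩
  rw [← Matrix.diagonal_natCast, Matrix.diagonal_apply_eq, Matrix.zero_apply,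
    ZMod.natCast_eq_zero_iff] at h00
  have := Fact.mk hr
  exact absurd ((padicValNat_dvd_iff_le hN0).mp h00) (by omega)

/-- The matrices of an action on an elementary abelian group. -/
theorem exists_matrix_hom {C A : Type*} [Group C] [CommGroup A] [Finite A] [Nontrivial A]
    [MulDistribMulAction C A] {r : ℕ} (hr : r.Prime) (hA : ∀ a : A, a ^ r = 1) :
    ∃ (n : ℕ) (ρ : C →* Matrix (Fin n) (Fin n) (ZMod r)), 0 < n ∧ ∀ (c : C) (m : ℕ),
      (∀ a : A, ∏ j ∈ Finset.range m, c ^ j • a = 1) → ∑ j ∈ Finset.range m, ρ c ^ j = 0 := by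
  classical
  have h0 : ∀ v : Additive A, r • v = 0 := fun v =>
    Additive.toMul.injective (hA (Additive.toMul v))
  letI := AddCommGroup.zmodModule (n := r) (G := Additive A) h0
  have := Fact.mk hr
  have : Module.Finite (ZMod r) (Additive A) := Module.Finite.of_finite
  let n := Module.finrank (ZMod r) (Additive A)
  let b : Module.Basis (Fin n) (ZMod r) (Additive A) := Module.finBasis (ZMod r) (Additive A)
  let T : C → (Additive A →ₗ[ZMod r] Additive A) := fun c => AddMonoidHom.toZModLinearMap r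
    (MonoidHom.toAdditive (MulDistribMulAction.toMonoidHom A c))
  have hT : ∀ c (v : Additive A), T c v = Additive.ofMul (c • Additive.toMul v) := fun c v => rfl
  let ρ : C →* Matrix (Fin n) (Fin n) (ZMod r) :=
    { toFun := fun c => LinearMap.toMatrix b b (T c)
      map_one' := by
        have : T 1 = LinearMap.id := LinearMap.ext fun v => by
          rw [hT, one_smul]; rfl
        simp [this]
      map_mul' := fun x y => by
        have : T (x * y) = (T x).comp (T y) := LinearMap.ext fun v => by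
          rw [hT, mul_smul]; rfl
        simp only [this, LinearMap.toMatrix_comp b b b] }
  refine ⟨n, ρ, Module.finrank_pos, fun c m hm => ?_⟩
  simp only [← map_pow]
  show ∑ j ∈ Finset.range m, LinearMap.toMatrix b b (T (c ^ j)) = 0
  rw [← map_sum]
  convert map_zero (LinearMap.toMatrix b b)
  refine LinearMap.ext fun v => ?_
  simp only [LinearMap.sum_apply, LinearMap.zero_apply, hT]
  apply Additive.toMul.injective
  rw [toMul_sum, toMul_zero]
  simpa using hm (Additive.toMul v)

theorem exists_rat_fun [Finite G] (h : OccursAsComplement G) :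
    ∃ f : G → ℚ, IsFPFFun f ∧ f ≠ 0 := by
  classical
  obtain ⟨L, _, _, H, hH, ⟨e⟩⟩ := h
  have hk : Nat.card (Cfsg.frobeniusKernel H) ≠ 1 := by
    rw [card_frobeniusKernel hH]; exact (one_lt_index hH).ne'
  obtain ⟨r, hr, hrd⟩ := Nat.exists_prime_and_dvd hk
  have hrG : ¬ r ∣ Nat.card G := by
    rw [Nat.card_congr e.toEquiv]
    intro hd
    rw [card_frobeniusKernel hH] at hrd
    exact hr.one_lt.ne' (Nat.eq_one_of_dvd_coprimes (coprime_card_index hH) hd hrd)
  obtain ⟨C, V, ⟨e'⟩, hCV, hVc, hV1, hVr, hfpf⟩ := exists_fpf_elementary hH hr hrd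
  have := Fact.mk hr
  letI := FPF.conjAction C V hCV
  letI : CommGroup V := { (inferInstance : Group V) with mul_comm := fun a b => mul_comm' a b }
  have hf := FPF.isFPF_conjAction C V hCV hfpf
  let σ : G →* C := e'.toMonoidHom.comp e.toMonoidHom
  have : Nontrivial V := (Subgroup.nontrivial_iff_ne_bot V).mpr hV1
  obtain ⟨n, ρ, hn, hρ⟩ := exists_matrix_hom (C := C) (A := V) hr fun v =>
    Subtype.ext (by simpa using hVr _ v.2)
  refine exists_rat_fun_of_zmod hr hrG hn (ρ.comp σ) fun u hu => hρ (σ u) _ fun v => ?_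
  refine FPF.prod_pow_smul_eq_one hf (fun h1 => ?_) ?_ v
  · have : u = 1 := e.injective (e'.injective (by simpa [σ] using h1))
    rw [this, orderOf_one] at hu
    exact Nat.not_prime_one hu
  · rw [← map_pow, pow_orderOf_eq_one, map_one]

theorem occursAsComplement_iff [Finite G] [Nontrivial G] :
    OccursAsComplement G ↔ ∃ f : G → ℚ, IsFPFFun f ∧ f ≠ 0 :=
  ⟨exists_rat_fun, fun ⟨_, hf, h0⟩ => occursAsComplement_of_fun hf h0⟩

theorem nontrivial_of_occursAsComplement (h : OccursAsComplement G) : Nontrivial G := by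
  obtain ⟨L, _, _, H, hH, ⟨e⟩⟩ := h
  have : Nontrivial H := (Subgroup.nontrivial_iff_ne_bot H).mpr hH.1
  exact e.toEquiv.nontrivial

end Cfsg.Agent.Lib.Frobenius
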