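import Mathlib

/-!
A fixed-point-free representation in coprime characteristic lifts to characteristic zero
(no character theory: lifting of an averaged projection modulo `q ^ n`).
-/

namespace Cfsg.Agent.Lib.FPFLift

open Matrix

variable {G : Type*} [Group G] [Fintype G] [DecidableEq G]

/-- The matrix of right translation by `b`. -/
noncomputable def P (R : Type*) [CommRing R] (b : G) : Matrix G G R :=
  Matrix.of fun u v => if v = u * b then 1 else 0

/-- The sum of the translations by the powers of `g`. -/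
noncomputable def N (R : Type*) [CommRing R] (g : G) : Matrix G G R :=
  ∑ i ∈ Finset.range (orderOf g), P R (g ^ i)

variable {R : Type*} [CommRing R]

theorem P_mulVec (b : G) (x : G → R) (u : G) : (P R b *ᵥ x) u = x (u * b) := by
  simp [P, Matrix.mulVec, dotProduct, ite_mul]

theorem P_mul (a b : G) : P R a * P R b = P R (a * b) := by
  ext u v
  rw [Matrix.mul_apply, Finset.sum_eq_single (u * a)]
  · simp [P, mul_assoc]
  · intro j _ hj; simp [P, hj]
  · simp

theorem P_one : P R (1 : G) = 1 := by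
  ext u v
  simp [P, Matrix.one_apply, eq_comm]

theorem P_map {S : Type*} [CommRing S] (f : R →+* S) (b : G) : f.mapMatrix (P R b) = P S b := by
  ext u v
  simp only [P, RingHom.mapMatrix_apply, Matrix.map_apply, Matrix.of_apply]
  split_ifs <;> simp

theorem N_map {S : Type*} [CommRing S] (f : R →+* S) (g : G) : f.mapMatrix (N R g) = N S g := by
  simp only [N, map_sum, P_map]

theorem P_mul_N (g : G) : P R g * N R g = N R g := by
  simp only [N, Finset.mul_sum, P_mul, ← pow_succ']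
  have h1 := Finset.sum_range_succ' (fun i => P R (g ^ i)) (orderOf g)
  have h2 := Finset.sum_range_succ (fun i => P R (g ^ i)) (orderOf g)
  rw [h2, pow_orderOf_eq_one] at h1
  simp only [pow_zero] at h1
  exact (add_right_cancel h1).symm

theorem P_pow_mul_N (g : G) (i : ℕ) : P R (g ^ i) * N R g = N R g := by
  induction i with
  | zero => rw [pow_zero, P_one, one_mul]
  | succ i ih => rw [pow_succ, ← P_mul, mul_assoc, P_mul_N, ih]

theorem N_mul_self (g : G) : N R g * N R g = orderOf g • N R g := by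
  have : N R g * N R g = ∑ i ∈ Finset.range (orderOf g), P R (g ^ i) * N R g := by
    conv_lhs => arg 1; rw [N]
    rw [Finset.sum_mul]
  rw [this, Finset.sum_congr rfl (fun i _ => P_pow_mul_N g i), Finset.sum_const, Finset.card_range]

theorem N_pow_succ (g : G) (k : ℕ) : N R g ^ (k + 1) = orderOf g ^ k • N R g := by
  induction k with
  | zero => simp
  | succ k ih => rw [pow_succ, ih, smul_mul_assoc, N_mul_self, smul_smul, pow_succ]

theorem P_mul_N_conj (b g : G) : P R b * N R g = N R (b * g * b⁻¹) * P R b := by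
  have ho : orderOf (b * g * b⁻¹) = orderOf g := MulEquiv.orderOf_eq (MulAut.conj b) g
  simp only [N, Finset.mul_sum, Finset.sum_mul, P_mul, ho, conj_pow]
  refine Finset.sum_congr rfl fun i _ => ?_
  congr 1
  group

/-- Functions whose sums over the cosets of all nontrivial cyclic subgroups vanish. -/
noncomputable def X (R : Type*) [CommRing R] (G : Type*) [Group G] [Fintype G] [DecidableEq G] :
    Submodule R (G → R) :=
  ⨅ g : {g : G // g ≠ 1}, LinearMap.ker (N R (g : G)).mulVecLin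

theorem mem_X {x : G → R} : x ∈ X R G ↔ ∀ g : G, g ≠ 1 → N R g *ᵥ x = 0 := by
  simp only [X, Submodule.mem_iInf, LinearMap.mem_ker, Matrix.mulVecLin_apply, Subtype.forall]

theorem P_mulVec_mem {x : G → R} (hx : x ∈ X R G) (b : G) : P R b *ᵥ x ∈ X R G := by
  rw [mem_X] at hx ⊢
  intro g hg
  have h : N R g * P R b = P R b * N R (b⁻¹ * g * b) := by
    rw [P_mul_N_conj]
    congr 2
    group
  rw [Matrix.mulVec_mulVec, h, ← Matrix.mulVec_mulVec, hx _ ?_, Matrix.mulVec_zero]
  intro h1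
  apply hg
  calc g = b * (b⁻¹ * g * b) * b⁻¹ := by group
    _ = 1 := by rw [h1]; group

theorem eq_zero_of_P_fixed {x : G → R} (hx : x ∈ X R G) {g : G} (hg : g ≠ 1)
    (hu : IsUnit (orderOf g : R)) (hfix : P R g *ᵥ x = x) : x = 0 := by
  have hp : ∀ i, P R (g ^ i) *ᵥ x = x := by
    intro i
    induction i with
    | zero => rw [pow_zero, P_one, Matrix.one_mulVec]
    | succ i ih => rw [pow_succ, ← P_mul, ← Matrix.mulVec_mulVec, hfix, ih]
  have h : N R g *ᵥ x = (orderOf g : R) • x := by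
    simp only [N, Matrix.sum_mulVec, hp, Finset.sum_const, Finset.card_range, Nat.cast_smul_eq_nsmul]
  rw [mem_X.mp hx g hg] at h
  exact (hu.smul_eq_zero).mp h.symm

/-- Lifting from `ZMod q` to `ZMod (q ^ n)`. -/
theorem exists_lift (q n : ℕ) [hq : Fact q.Prime] (hn : 0 < n) (hcop : ¬ q ∣ Fintype.card G)
    {x : G → ZMod q} (hx : x ∈ X (ZMod q) G) :
    ∃ y ∈ X (ZMod (q ^ n)) G, ∀ u, ZMod.castHom (dvd_pow_self q hn.ne') (ZMod q) (y u) = x u := by
  classical
  have : NeZero (q ^ n) := ⟨pow_ne_zero _ hq.out.ne_zero⟩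
  set f : ZMod (q ^ n) →+* ZMod q := ZMod.castHom (dvd_pow_self q hn.ne') (ZMod q) with hf
  have hsec : ∀ c : ZMod q, f ((c.val : ℕ) : ZMod (q ^ n)) = c := fun c => by
    rw [map_natCast, ZMod.natCast_zmod_val]
  obtain ⟨C, hC⟩ := (X (ZMod q) G).exists_isCompl
  set pr : (G → ZMod q) →ₗ[ZMod q] (G → ZMod q) :=
    (X (ZMod q) G).subtype.comp ((X (ZMod q) G).projectionOnto C hC) with hpr
  set π : Matrix G G (ZMod q) := LinearMap.toMatrix' pr
  have hπX : ∀ z, π *ᵥ z ∈ X (ZMod q) G := fun z => by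
    rw [LinearMap.toMatrix'_mulVec]; exact Submodule.coe_mem _
  have hπid : ∀ z ∈ X (ZMod q) G, π *ᵥ z = z := fun z hz => by
    rw [LinearMap.toMatrix'_mulVec]
    exact congrArg Subtype.val (Submodule.projectionOnto_apply_left hC ⟨z, hz⟩)
  set pr₀ : Matrix G G (ZMod (q ^ n)) := π.map fun c => ((c.val : ℕ) : ZMod (q ^ n))
  have hpr₀ : f.mapMatrix pr₀ = π := by ext u v; exact hsec _
  have hcard : IsUnit ((Fintype.card G : ℕ) : ZMod (q ^ n)) :=
    (ZMod.isUnit_iff_coprime _ _).mpr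
      (Nat.Coprime.pow_right n ((hq.out.coprime_iff_not_dvd.mpr hcop).symm))
  obtain ⟨c, hc⟩ := hcard.exists_left_inv
  set prn : Matrix G G (ZMod (q ^ n)) := c • ∑ b : G, P _ b * pr₀ * P _ b⁻¹ with hprn
  have hcomm : ∀ a : G, Commute prn (P (ZMod (q ^ n)) a) := by
    intro a
    apply Commute.smul_left
    show _ * _ = _ * _
    rw [Finset.sum_mul, Finset.mul_sum, ← Equiv.sum_comp (Equiv.mulLeft a)]
    refine Finset.sum_congr rfl fun b _ => ?_
    simp only [Equiv.coe_mulLeft]
    rw [mul_assoc, P_mul, _root_.mul_inv_rev, inv_mul_cancel_right, ← mul_assoc (P _ a), ← mul_assoc (P _ a),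
      P_mul]
  set πb : Matrix G G (ZMod q) := f.mapMatrix prn with hπb
  have hπbv : ∀ z, πb *ᵥ z = f c • ∑ b : G, P _ b *ᵥ (π *ᵥ (P _ b⁻¹ *ᵥ z)) := by
    intro z
    have h1 : πb = f c • ∑ b : G, P _ b * π * P _ b⁻¹ := by
      rw [hπb, hprn]
      have : f.mapMatrix (c • ∑ b : G, P _ b * pr₀ * P _ b⁻¹) =
          f c • f.mapMatrix (∑ b : G, P _ b * pr₀ * P _ b⁻¹) := by
        ext u v
        simp only [RingHom.mapMatrix_apply, Matrix.map_apply, Matrix.smul_apply, smul_eq_mul, map_mul]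
      rw [this, map_sum]
      simp only [map_mul, P_map, hpr₀]
    rw [h1, Matrix.smul_mulVec, Matrix.sum_mulVec]
    simp only [Matrix.mulVec_mulVec, mul_assoc]
  have hπbX : ∀ z, πb *ᵥ z ∈ X (ZMod q) G := fun z => by
    rw [hπbv]
    exact Submodule.smul_mem _ _ (Submodule.sum_mem _ fun b _ => P_mulVec_mem (hπX _) b)
  have hπbid : ∀ z ∈ X (ZMod q) G, πb *ᵥ z = z := fun z hz => by
    rw [hπbv]
    have : ∀ b : G, P _ b *ᵥ (π *ᵥ (P _ b⁻¹ *ᵥ z)) = z := fun b => by
      rw [hπid _ (P_mulVec_mem hz _), Matrix.mulVec_mulVec, P_mul, mul_inv_cancel, P_one,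
        Matrix.one_mulVec]
    rw [Finset.sum_congr rfl (fun b _ => this b), Finset.sum_const, Finset.card_univ,
      ← Nat.cast_smul_eq_nsmul (ZMod q), smul_smul, ← map_natCast f, ← map_mul, hc, map_one, one_smul]
  set y := (prn ^ n) *ᵥ (fun u => ((x u).val : ZMod (q ^ n)))
  refine ⟨y, mem_X.mpr fun g hg => ?_, fun u => ?_⟩
  · have hcN : Commute prn (N _ g) := Commute.sum_right _ _ _ fun i _ => hcomm _
    have hzero : f.mapMatrix (prn * N _ g) = 0 := by
      rw [hcN.eq, map_mul, N_map, ← hπb, Matrix.ext_iff_mulVec]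
      intro z
      rw [← Matrix.mulVec_mulVec, mem_X.mp (hπbX z) g hg, Matrix.zero_mulVec]
    have hker : ∀ a : ZMod (q ^ n), f a = 0 → ∃ b, a = (q : ZMod (q ^ n)) * b := by
      intro a ha
      have h1 : q ∣ a.val := by
        rw [← ZMod.natCast_eq_zero_iff, ← map_natCast f, ZMod.natCast_zmod_val, ha]
      obtain ⟨b, hb⟩ := h1
      exact ⟨(b : ZMod (q ^ n)), by rw [← Nat.cast_mul, ← hb, ZMod.natCast_zmod_val]⟩
    choose B hB using hker
    set M : Matrix G G (ZMod (q ^ n)) :=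
      Matrix.of fun u v => B _ (congrFun (congrFun hzero u) v : f ((prn * N (ZMod (q ^ n)) g) u v) = 0)
    have hM : prn * N _ g = (q : ZMod (q ^ n)) • M := by
      ext u v
      simp only [M, Matrix.smul_apply, Matrix.of_apply, smul_eq_mul]
      exact hB _ _
    have hnil : (prn * N _ g) ^ n = 0 := by
      rw [hM, smul_pow, ← Nat.cast_pow, ZMod.natCast_self, zero_smul]
    obtain ⟨k, hk⟩ : ∃ k, n = k + 1 := ⟨n - 1, by omega⟩
    have hou : IsUnit ((orderOf g ^ k : ℕ) : ZMod (q ^ n)) := by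
      refine (ZMod.isUnit_iff_coprime _ _).mpr (Nat.Coprime.pow _ _ ?_)
      exact (hq.out.coprime_iff_not_dvd.mpr fun h => hcop (h.trans orderOf_dvd_card)).symm
    have hN0 : N _ g * prn ^ n = 0 := by
      rw [hcN.mul_pow] at hnil
      have hNn : N (ZMod (q ^ n)) g ^ n = orderOf g ^ k • N (ZMod (q ^ n)) g :=
        (congrArg (fun j => N (ZMod (q ^ n)) g ^ j) hk).trans (N_pow_succ g k)
      rw [hNn] at hnil
      rw [mul_smul_comm, ← Nat.cast_smul_eq_nsmul (ZMod (q ^ n)), hou.smul_eq_zero] at hnil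
      rw [← (hcN.pow_left n).eq]
      exact hnil
    rw [Matrix.mulVec_mulVec, hN0, Matrix.zero_mulVec]
  · have h1 : f (y u) = ((f.mapMatrix (prn ^ n)) *ᵥ x) u := by
      rw [RingHom.map_mulVec]
      congr 2
      funext v
      exact hsec _
    rw [h1, map_pow, ← hπb]
    have h2 : ∀ k : ℕ, (πb ^ k) *ᵥ x = x := fun k => by
      induction k with
      | zero => rw [pow_zero, Matrix.one_mulVec]
      | succ k ih => rw [pow_succ, ← Matrix.mulVec_mulVec, hπbid x hx, ih]
    rw [h2]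

/-- A fixed-point-free module in coprime characteristic gives a rational one. -/
theorem exists_rat_mem_X (q : ℕ) [hq : Fact q.Prime] (hcop : ¬ q ∣ Fintype.card G)
    {V : Type*} [AddCommGroup V] [Module (ZMod q) V] [Nontrivial V]
    (ρ : G →* Module.End (ZMod q) V) (hfpf : ∀ g : G, g ≠ 1 → ∀ v, ρ g v = v → v = 0) :
    ∃ x ∈ X ℚ G, x ≠ 0 := by
  classical
  -- a nonzero function modulo `q`
  obtain ⟨v, hv⟩ := exists_ne (0 : V)
  obtain ⟨φ, hφ⟩ : ∃ φ : Module.Dual (ZMod q) V, φ v ≠ 0 := by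
    by_contra! h
    exact hv ((Module.forall_dual_apply_eq_zero_iff (ZMod q) v).mp h)
  set x₀ : G → ZMod q := fun u => φ (ρ u v) with hx₀
  have hx₀X : x₀ ∈ X (ZMod q) G := mem_X.mpr fun g hg => by
    funext u
    simp only [N, Matrix.sum_mulVec, Finset.sum_apply, P_mulVec, hx₀, map_mul, Module.End.mul_apply,
      ← map_sum, Pi.zero_apply]
    rw [hfpf g hg (∑ i ∈ Finset.range (orderOf g), ρ (g ^ i) v) ?_, map_zero, map_zero]
    rw [map_sum]
    have h1 : ∀ i, ρ g (ρ (g ^ i) v) = ρ (g ^ (i + 1)) v := fun i => by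
      rw [pow_succ', map_mul, Module.End.mul_apply]
    simp only [h1]
    have h2 := Finset.sum_range_succ' (fun i => ρ (g ^ i) v) (orderOf g)
    rw [Finset.sum_range_succ (fun i => ρ (g ^ i) v), pow_orderOf_eq_one] at h2
    simp only [pow_zero] at h2
    exact (add_right_cancel h2).symm
  -- assume there is no rational one
  by_contra hcon
  push Not at hcon
  let A : (G → ℚ) →ₗ[ℚ] ({g : G // g ≠ 1} → G → ℚ) :=
    LinearMap.pi fun g => (N ℚ (g : G)).mulVecLin
  have hA : LinearMap.ker A = ⊥ := by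
    rw [eq_bot_iff]
    intro x hx
    refine hcon x (mem_X.mpr fun g hg => ?_)
    exact congrFun (LinearMap.mem_ker.mp hx) ⟨g, hg⟩
  obtain ⟨L, hL⟩ := A.exists_leftInverse_of_injective hA
  set B : {g : G // g ≠ 1} → Matrix G G ℚ :=
    fun g => LinearMap.toMatrix' (L.comp (LinearMap.single ℚ (fun _ => G → ℚ) g))
  have hBN : ∑ g, B g * N ℚ (g : G) = 1 := by
    rw [Matrix.ext_iff_mulVec]
    intro z
    simp only [Matrix.sum_mulVec, ← Matrix.mulVec_mulVec, B, LinearMap.toMatrix'_mulVec,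
      LinearMap.comp_apply, LinearMap.coe_single, ← map_sum, Matrix.one_mulVec]
    rw [Finset.univ_sum_single (fun g : {g : G // g ≠ 1} => N ℚ (g : G) *ᵥ z)]
    exact congrArg (fun h : (G → ℚ) →ₗ[ℚ] G → ℚ => h z) hL
  -- clear denominators
  obtain ⟨⟨m, hm⟩, hC⟩ := IsLocalization.exist_integer_multiples_of_finite (nonZeroDivisors ℤ)
    (fun p : {g : G // g ≠ 1} × G × G => B p.1 p.2.1 p.2.2)
  have hm0 : m ≠ 0 := nonZeroDivisors.ne_zero hm
  choose C' hC' using hC
  set C : {g : G // g ≠ 1} → Matrix G G ℤ := fun g => Matrix.of fun u v => C' (g, u, v)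
  have hCB : ∀ g, (Int.castRingHom ℚ).mapMatrix (C g) = (m : ℚ) • B g := by
    intro g; ext u v
    simpa [C, Algebra.smul_def] using hC' (g, u, v)
  have hint : ∑ g, C g * N ℤ (g : G) = m • (1 : Matrix G G ℤ) := by
    apply Matrix.map_injective (f := (Int.castRingHom ℚ)) Int.cast_injective
    change (Int.castRingHom ℚ).mapMatrix _ = (Int.castRingHom ℚ).mapMatrix _
    rw [map_sum]
    simp only [map_mul, hCB, N_map, smul_mul_assoc, ← Finset.smul_sum, hBN]
    rw [map_zsmul, map_one, Int.cast_smul_eq_zsmul]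
  -- reduce modulo a high power of `q`
  set n := m.natAbs + 1
  obtain ⟨y, hy, hyx⟩ := exists_lift q n (Nat.succ_pos _) hcop hx₀X
  have : NeZero (q ^ n) := ⟨pow_ne_zero _ hq.out.ne_zero⟩
  have hyu : IsUnit (y 1) := by
    rw [← ZMod.natCast_zmod_val (y 1), ZMod.isUnit_iff_coprime]
    refine Nat.Coprime.pow_right n ((hq.out.coprime_iff_not_dvd.mpr fun h => hφ ?_).symm)
    have h2 := hyx 1
    rw [← ZMod.natCast_zmod_val (y 1), map_natCast, (ZMod.natCast_eq_zero_iff _ _).mpr h] at h2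
    rw [hx₀] at h2
    simpa using h2.symm
  have hkey := congrArg (fun Mx => ((Int.castRingHom (ZMod (q ^ n))).mapMatrix Mx) *ᵥ y) hint
  simp only [map_sum, map_mul, N_map, Matrix.sum_mulVec, ← Matrix.mulVec_mulVec] at hkey
  rw [Finset.sum_eq_zero (fun g _ => by rw [mem_X.mp hy g g.2, Matrix.mulVec_zero]), map_zsmul,
    map_one, Matrix.smul_mulVec, Matrix.one_mulVec] at hkey
  have hkey1 := congrFun hkey 1
  rw [Pi.zero_apply, Pi.smul_apply, zsmul_eq_mul, eq_comm, hyu.mul_left_eq_zero,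
    ZMod.intCast_zmod_eq_zero_iff_dvd] at hkey1
  have hle : q ^ n ≤ m.natAbs := Nat.le_of_dvd (Int.natAbs_pos.mpr hm0) (Int.natCast_dvd.mp hkey1)
  have : n < q ^ n := Nat.lt_pow_self hq.out.one_lt
  omega

/-- The representation on functions by right translation, on an invariant subspace. -/
noncomputable def rep (R : Type*) [CommRing R] (G : Type*) [Group G] [Fintype G] [DecidableEq G] :
    G →* Matrix G G R where
  toFun := P R
  map_one' := P_one
  map_mul' a b := (P_mul a b).symm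

/-- An irreducible fixed-point-free representation from a nonzero element of `X`. -/
theorem exists_irreducible {k : Type*} [Field k] [CharZero k] {x : G → k} (hx : x ∈ X k G)
    (hx0 : x ≠ 0) :
    ∃ (d : ℕ) (ρ : G →* GL (Fin d) k), 0 < d ∧
      (∀ W : Submodule k (Fin d → k),
        (∀ g : G, ∀ w ∈ W, ((ρ g : GL (Fin d) k) : Matrix (Fin d) (Fin d) k) *ᵥ w ∈ W) →
        W = ⊥ ∨ W = ⊤) ∧
      ∀ g : G, g ≠ 1 → ∀ v : Fin d → k,
        ((ρ g : GL (Fin d) k) : Matrix (Fin d) (Fin d) k) *ᵥ v = v → v = 0 := by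
  classical
  let S : Set (Submodule k (G → k)) :=
    {W | W ≠ ⊥ ∧ W ≤ X k G ∧ ∀ b, ∀ w ∈ W, P k b *ᵥ w ∈ W}
  obtain ⟨W, ⟨hW0, hWX, hWinv⟩, hWmin⟩ := wellFounded_lt.has_min S
    ⟨X k G, (Submodule.ne_bot_iff _).mpr ⟨x, hx, hx0⟩, le_rfl, fun b w hw => P_mulVec_mem hw b⟩
  set bas := Module.finBasis k W
  let T : G →* Module.End k W :=
    { toFun := fun b => (P k b).mulVecLin.restrict (fun w hw => hWinv b w hw)
      map_one' := by
        refine LinearMap.ext fun w => Subtype.ext ?_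
        show P k (1 : G) *ᵥ (w : G → k) = w
        rw [P_one, Matrix.one_mulVec]
      map_mul' := fun a b => by
        refine LinearMap.ext fun w => Subtype.ext ?_
        show P k (a * b) *ᵥ (w : G → k) = P k a *ᵥ (P k b *ᵥ (w : G → k))
        rw [Matrix.mulVec_mulVec, P_mul] }
  let ρ₀ : G →* Matrix (Fin (Module.finrank k W)) (Fin (Module.finrank k W)) k :=
    (LinearMap.toMatrixAlgEquiv bas).toMonoidHom.comp T
  have hcoe : ∀ g, ((ρ₀.toHomUnits g : GL (Fin (Module.finrank k W)) k) : Matrix _ _ k) = ρ₀ g :=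
    fun g => MonoidHom.coe_toHomUnits ρ₀ g
  have hact : ∀ (g : G) (v : Fin (Module.finrank k W) → k),
      bas.equivFun.symm (ρ₀ g *ᵥ v) = T g (bas.equivFun.symm v) := by
    intro g v
    apply bas.equivFun.injective
    rw [LinearEquiv.apply_symm_apply]
    conv_lhs => rw [← bas.equivFun.apply_symm_apply v]
    exact LinearMap.toMatrix_mulVec_repr bas bas (T g) _
  have hnt : Nontrivial W := Submodule.nontrivial_iff_ne_bot.mpr hW0
  refine ⟨Module.finrank k W, ρ₀.toHomUnits, Module.finrank_pos, fun U hU => ?_, fun g hg v hv => ?_⟩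
  · simp only [hcoe] at hU
    set U' : Submodule k (G → k) := (U.map bas.equivFun.symm.toLinearMap).map W.subtype
    by_cases hb : U' = ⊥
    · left
      rw [eq_bot_iff]
      intro u hu
      have h1 : ((bas.equivFun.symm u : W) : G → k) ∈ U' := ⟨_, ⟨u, hu, rfl⟩, rfl⟩
      rw [hb, Submodule.mem_bot, Submodule.coe_eq_zero, LinearEquiv.map_eq_zero_iff] at h1
      exact (Submodule.mem_bot k).mpr h1
    right
    have hU'W : U' ≤ W := Submodule.map_subtype_le _ _
    have hU'inv : ∀ b, ∀ w ∈ U', P k b *ᵥ w ∈ U' := by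
      rintro b _ ⟨_, ⟨u, hu, rfl⟩, rfl⟩
      refine ⟨bas.equivFun.symm (ρ₀ b *ᵥ u), ⟨_, hU b u hu, rfl⟩, ?_⟩
      rw [hact]
      rfl
    have hU' : U' = W := by
      by_contra h
      exact hWmin U' ⟨hb, hU'W.trans hWX, hU'inv⟩ (lt_of_le_of_ne hU'W h)
    rw [eq_top_iff]
    intro u _
    have h1 : ((bas.equivFun.symm u : W) : G → k) ∈ U' := hU'.symm ▸ (bas.equivFun.symm u).2
    obtain ⟨_, ⟨u', hu', rfl⟩, he⟩ := h1
    exact bas.equivFun.symm.injective (Subtype.ext he) ▸ hu'
  · rw [hcoe] at hv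
    have h1 := congrArg bas.equivFun.symm hv
    rw [hact] at h1
    have h2 : P k g *ᵥ ((bas.equivFun.symm v : W) : G → k) = _ := congrArg Subtype.val h1
    have h3 := eq_zero_of_P_fixed (hWX (bas.equivFun.symm v).2) hg
      (isUnit_iff_ne_zero.mpr (Nat.cast_ne_zero.mpr (orderOf_pos g).ne')) h2
    exact bas.equivFun.symm.map_eq_zero_iff.mp (Subtype.ext h3)

end Cfsg.Agent.Lib.FPFLift
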