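import Cfsg.Agent.Lib.Frobenius.Kernel
import Cfsg.Agent.Lib.Coprime.ThompsonFPF

/-!
The Frobenius kernel is nilpotent, given Thompson's normal `p`-complement criterion.
-/

set_option autoImplicit false

namespace Cfsg.Agent.Lib.Frobenius

universe u

theorem kernel_isNilpotent_of_criterion (hT : Coprime.NPCCriterion.{u}) {G : Type u} [Group G]
    [Finite G] {H : Subgroup G} (hH : Cfsg.IsFrobeniusComplement H) :
    ∃ N : Subgroup G, (N : Set G) = Cfsg.frobeniusKernel H ∧ N.Normal ∧
      Group.IsNilpotent N := by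
  obtain ⟨N, hN, hNn, -⟩ := exists_kernel hH
  refine ⟨N, hN, hNn, ?_⟩
  obtain ⟨h, hh, h1⟩ := exists_ne_one hH
  set p := (orderOf h).minFac
  have hp : p.Prime := Nat.minFac_prime (fun e => h1 (orderOf_eq_one_iff.mp e))
  set a := h ^ (orderOf h / p) with ha
  have hao : orderOf a = p := orderOf_pow_orderOf_div (orderOf_pos h).ne' (Nat.minFac_dvd _)
  have ha1 : a ≠ 1 := fun e => by rw [e, orderOf_one] at hao; exact hp.one_lt.ne hao
  have := hNn
  refine Coprime.isNilpotent_of_fixedPointFree hT (MulAut.conjNormal a : MulAut N)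
    (fun k hk => ?_) hp ?_
  · have e : a * (k : G) * a⁻¹ = k := by
      rw [← MulAut.conjNormal_apply]; exact congrArg Subtype.val hk
    have hkH : (k : G) ∈ H := centralizer_le hH (pow_mem hh _) ha1
      (Subgroup.mem_centralizer_singleton_iff.mpr (eq_mul_inv_iff_mul_eq.mp e.symm))
    have hkK : (k : G) ∈ Cfsg.frobeniusKernel H := hN ▸ k.2
    exact Subtype.ext (eq_one_of_mem_frobeniusKernel hkK hkH)
  · show (MulAut.conjNormal a : MulAut N) ^ p = 1
    rw [← map_pow, ← hao, pow_orderOf_eq_one, map_one]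

end Cfsg.Agent.Lib.Frobenius
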