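import Cfsg.Agent.Lib.Frobenius.Abstract
import Cfsg.Agent.Lib.Frobenius.Complement
import Cfsg.Agent.Lib.Frobenius.Even

/-!
Frobenius groups whose complements have quaternion subgroups.
-/

set_option autoImplicit false

namespace Cfsg.Agent.Lib.Frobenius

universe u

theorem isSquare_card_of_anticommute_elem {A : Type*} [CommGroup A] [Finite A] {q : ℕ}
    (hq : q.Prime) (hodd : Odd (Nat.card A)) (hexp : ∀ x : A, x ^ q = 1) (i j : A ≃* A)
    (hij : ∀ x, i (j x) = (j (i x))⁻¹) : IsSquare (Nat.card A) := by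
  classical
  rcases subsingleton_or_nontrivial A with hA | hA
  · rw [Nat.card_of_subsingleton (1 : A)]
    exact IsSquare.one
  have h0 : ∀ v : Additive A, q • v = 0 := fun v =>
    Additive.toMul.injective (hexp (Additive.toMul v))
  letI := AddCommGroup.zmodModule (n := q) (G := Additive A) h0
  have := Fact.mk hq
  have : Module.Finite (ZMod q) (Additive A) := Module.Finite.of_finite
  let li : Additive A →ₗ[ZMod q] Additive A :=
    AddMonoidHom.toZModLinearMap q (MonoidHom.toAdditive i.toMonoidHom)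
  let lj : Additive A →ₗ[ZMod q] Additive A :=
    AddMonoidHom.toZModLinearMap q (MonoidHom.toAdditive j.toMonoidHom)
  have hli : li.det ≠ 0 := fun e => by
    obtain ⟨x, hx⟩ := exists_ne (1 : A)
    have : ∀ v, li v = 0 → v = 0 := fun v hv =>
      Additive.toMul.injective (i.injective (hv.trans (map_one i).symm))
    have hk := LinearMap.bot_lt_ker_of_det_eq_zero e
    rw [LinearMap.ker_eq_bot'.mpr this] at hk
    exact lt_irrefl _ hk
  have hlj : lj.det ≠ 0 := fun e => by
    have : ∀ v, lj v = 0 → v = 0 := fun v hv =>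
      Additive.toMul.injective (j.injective (hv.trans (map_one j).symm))
    have hk := LinearMap.bot_lt_ker_of_det_eq_zero e
    rw [LinearMap.ker_eq_bot'.mpr this] at hk
    exact lt_irrefl _ hk
  have hcomp : li.comp lj = (-1 : ZMod q) • lj.comp li := by
    refine LinearMap.ext fun v => ?_
    rw [LinearMap.smul_apply, neg_one_smul]
    exact hij (Additive.toMul v)
  have hdet := congrArg LinearMap.det hcomp
  rw [LinearMap.det_smul, LinearMap.det_comp, LinearMap.det_comp, mul_comm lj.det li.det] at hdet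
  have hpow : ((-1 : ZMod q)) ^ Module.finrank (ZMod q) (Additive A) = 1 :=
    mul_right_cancel₀ (mul_ne_zero hli hlj) (by rw [one_mul]; exact hdet.symm)
  have hcard : Nat.card A = q ^ Module.finrank (ZMod q) (Additive A) := by
    have h := Module.natCard_eq_pow_finrank (K := ZMod q) (V := Additive A)
    rw [Nat.card_zmod] at h
    exact (Nat.card_congr Additive.ofMul).trans h
  have hq2 : q ≠ 2 := by
    rintro rfl
    have hpos : 0 < Module.finrank (ZMod 2) (Additive A) := Module.finrank_pos
    rw [hcard, Nat.odd_pow_iff hpos.ne'] at hodd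
    exact absurd hodd (by decide)
  have heven : Even (Module.finrank (ZMod q) (Additive A)) := by
    rcases Nat.even_or_odd (Module.finrank (ZMod q) (Additive A)) with h | h
    · exact h
    rw [h.neg_one_pow] at hpow
    exfalso
    have h2 : ((2 : ℕ) : ZMod q) = 0 := by linear_combination (-1 : ZMod q) * hpow
    rw [ZMod.natCast_eq_zero_iff] at h2
    exact hq2 ((Nat.prime_dvd_prime_iff_eq hq Nat.prime_two).mp h2)
  rw [hcard]
  exact heven.isSquare_pow q

/-- An abelian group of odd order with two anticommuting automorphisms has square order. -/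
theorem isSquare_card_of_anticommute : ∀ (n : ℕ) (A : Type u) [CommGroup A] [Finite A],
    Nat.card A = n → Odd n → ∀ i j : A ≃* A, (∀ x, i (j x) = (j (i x))⁻¹) → IsSquare n := by
  intro n
  induction n using Nat.strong_induction_on with
  | _ n ih =>
  intro A _ _ hn hodd i j hij
  by_cases h1 : n = 1
  · exact h1 ▸ IsSquare.one
  obtain ⟨q, hq, hqn⟩ := Nat.exists_prime_and_dvd h1
  have := Fact.mk hq
  let f : A →* A := powMonoidHom q
  have hfk : ∀ (e : A ≃* A) x, x ∈ f.ker → e x ∈ f.ker := fun e x hx => by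
    simp only [f, MonoidHom.mem_ker, powMonoidHom_apply] at hx ⊢
    rw [← map_pow, hx, map_one]
  have hfr : ∀ (e : A ≃* A) x, x ∈ f.range → e x ∈ f.range := by
    rintro e _ ⟨x, rfl⟩
    exact ⟨e x, by simp [f, map_pow]⟩
  have mkEquiv : ∀ (W : Subgroup A) (e : A ≃* A), (∀ x ∈ W, e x ∈ W) →
      ∃ e' : W ≃* W, ∀ x : W, ((e' x : W) : A) = e x := by
    intro W e he
    let g : W →* W := (e.toMonoidHom.comp W.subtype).codRestrict W fun x => he x x.2
    have hg : Function.Injective g := fun x y h =>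
      Subtype.ext (e.injective (congrArg Subtype.val h))
    exact ⟨MulEquiv.ofBijective g ⟨hg, Finite.surjective_of_injective hg⟩, fun x => rfl⟩
  have hcard : Nat.card f.ker * Nat.card f.range = n := by
    rw [← Subgroup.index_ker, Subgroup.card_mul_index, hn]
  have hk2 : Odd (Nat.card f.ker) := hodd.of_dvd_nat (hcard ▸ dvd_mul_right _ _)
  have hr2 : Odd (Nat.card f.range) := hodd.of_dvd_nat (hcard ▸ dvd_mul_left _ _)
  have hkne : 1 < Nat.card f.ker := by
    obtain ⟨x, hx⟩ := exists_prime_orderOf_dvd_card' (G := A) q (hn ▸ hqn)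
    rw [Subgroup.one_lt_card_iff_ne_bot]
    intro e
    have hmem : x ∈ f.ker := by
      simp only [f, MonoidHom.mem_ker, powMonoidHom_apply]
      rw [← hx, pow_orderOf_eq_one]
    rw [e, Subgroup.mem_bot] at hmem
    rw [hmem, orderOf_one] at hx
    exact hq.one_lt.ne hx
  obtain ⟨ik, hik⟩ := mkEquiv f.ker i (hfk i)
  obtain ⟨jk, hjk⟩ := mkEquiv f.ker j (hfk j)
  obtain ⟨ir, hir⟩ := mkEquiv f.range i (hfr i)
  obtain ⟨jr, hjr⟩ := mkEquiv f.range j (hfr j)
  rw [← hcard]
  refine IsSquare.mul ?_ ?_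
  · refine isSquare_card_of_anticommute_elem hq hk2 (fun x => Subtype.ext ?_) ik jk
      (fun x => Subtype.ext ?_)
    · exact x.2
    · rw [hik, hjk, Subgroup.coe_inv, hjk, hik]
      exact hij x
  · refine ih _ ?_ f.range rfl hr2 ir jr fun x => Subtype.ext ?_
    · rw [← hcard]
      exact lt_mul_of_one_lt_left Nat.card_pos hkne
    · rw [hir, hjr, Subgroup.coe_inv, hjr, hir]
      exact hij x

/-- Two elements of a complement with commutator of order two force square odd kernel order. -/
theorem card_kernel_odd_square {L : Type u} [Group L] [Finite L] {H : Subgroup L}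
    (hH : Cfsg.IsFrobeniusComplement H) {s t : L} (hs : s ∈ H) (ht : t ∈ H)
    (hz1 : s * t * s⁻¹ * t⁻¹ ≠ 1) (hz2 : s * t * s⁻¹ * t⁻¹ * (s * t * s⁻¹ * t⁻¹) = 1) :
    Odd (Nat.card (Cfsg.frobeniusKernel H)) ∧ IsSquare (Nat.card (Cfsg.frobeniusKernel H)) := by
  classical
  obtain ⟨N, hNeq, hNn, hc⟩ := exists_kernel hH
  have := hNn
  set z := s * t * s⁻¹ * t⁻¹ with hz
  have hzH : z ∈ H := mul_mem (mul_mem (mul_mem hs ht) (inv_mem hs)) (inv_mem ht)
  have hfpf := fpf_of_isFrobeniusComplement (disjoint_iff.mp hc.disjoint) hH z hzH hz1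
  have hodd : Odd (Nat.card N) := by
    rw [← Nat.not_even_iff_odd, even_iff_two_dvd]
    intro h
    have h2 : 2 ∣ Nat.card H := by
      have : orderOf z = 2 := orderOf_eq_prime (by rw [pow_two]; exact hz2) hz1
      exact this ▸ Subgroup.orderOf_dvd_natCard H hzH
    exact (by decide : ¬ (2 : ℕ) = 1) (Nat.eq_one_of_dvd_coprimes
      (coprime_card_of_isComplement' hc hH) h2 h)
  have hzi : z⁻¹ = z := inv_eq_of_mul_eq_one_right hz2
  let σ : N → N := fun x =>
    ⟨(x : L)⁻¹ * (z * x * z⁻¹), mul_mem (inv_mem x.2) (hNn.conj_mem _ x.2 z)⟩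
  have hσ : Function.Injective σ := by
    intro x y h
    have h' : (x : L)⁻¹ * (z * x * z⁻¹) = (y : L)⁻¹ * (z * y * z⁻¹) := congrArg Subtype.val h
    have hm : (y : L) * (x : L)⁻¹ ∈ N ⊓ Subgroup.centralizer {z} :=
      Subgroup.mem_inf.mpr ⟨mul_mem y.2 (inv_mem x.2),
        Subgroup.mem_centralizer_singleton_iff.mpr (by
          calc (y : L) * (x : L)⁻¹ * z
              = y * ((x : L)⁻¹ * (z * x * z⁻¹)) * z * (x : L)⁻¹ := by group
            _ = z * ((y : L) * (x : L)⁻¹) := by rw [h']; group)⟩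
    rw [hfpf, Subgroup.mem_bot, mul_inv_eq_one] at hm
    exact Subtype.ext hm.symm
  have hinv : ∀ x ∈ N, z * x * z⁻¹ = x⁻¹ := by
    intro x hx
    obtain ⟨y, hy⟩ := Finite.surjective_of_injective hσ ⟨x, hx⟩
    have hy' : (y : L)⁻¹ * (z * y * z⁻¹) = x := congrArg Subtype.val hy
    rw [← hy']
    calc z * ((y : L)⁻¹ * (z * y * z⁻¹)) * z⁻¹
        = z * (y : L)⁻¹ * z * y * (z⁻¹ * z⁻¹) := by group
      _ = z * (y : L)⁻¹ * z⁻¹ * y := by rw [hzi, hz2, mul_one]
      _ = _ := by group
  letI : CommGroup N := { (inferInstance : Group N) with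
    mul_comm := fun a b => Subtype.ext (by
      have h := hinv _ (mul_mem (inv_mem a.2) (inv_mem b.2))
      have e : z * ((a : L)⁻¹ * (b : L)⁻¹) * z⁻¹ =
          (z * (a : L)⁻¹ * z⁻¹) * (z * (b : L)⁻¹ * z⁻¹) := by group
      rw [e, hinv _ (inv_mem a.2), hinv _ (inv_mem b.2), inv_inv, inv_inv, mul_inv_rev, inv_inv,
        inv_inv] at h
      exact h) }
  have hNc : Nat.card (Cfsg.frobeniusKernel H) = Nat.card N := by rw [← hNeq]; rfl
  rw [hNc]
  refine ⟨hodd, isSquare_card_of_anticommute _ N rfl hodd (MulAut.conjNormal s)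
    (MulAut.conjNormal t) fun x => Subtype.ext ?_⟩
  rw [Subgroup.coe_inv, MulAut.conjNormal_apply, MulAut.conjNormal_apply, MulAut.conjNormal_apply,
    MulAut.conjNormal_apply, ← hinv _ (hNn.conj_mem _ (hNn.conj_mem _ x.2 s) t), hz]
  group

/-- A noncyclic Sylow subgroup of a Frobenius complement gives square odd kernel order. -/
theorem card_kernel_of_not_isCyclic {L : Type u} [Group L] [Finite L] {H : Subgroup L}
    (hH : Cfsg.IsFrobeniusComplement H) {p : ℕ} [Fact p.Prime] (P : Sylow p H)
    (hP : ¬ IsCyclic P) :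
    Odd (Nat.card (Cfsg.frobeniusKernel H)) ∧ IsSquare (Nat.card (Cfsg.frobeniusKernel H)) := by
  obtain ⟨N, -, hNn, hc⟩ := exists_kernel hH
  have := hNn
  have hN1 : N ≠ ⊥ := by
    intro e
    rw [e, Subgroup.isComplement'_bot_left] at hc
    exact hH.2.1 hc
  obtain h | ⟨rfl, n, ⟨e⟩⟩ := sylow_cyclic_or_quaternion hc hN1
    (fpf_of_isFrobeniusComplement (disjoint_iff.mp hc.disjoint) hH) p P
  · exact absurd h hP
  rcases n with _ | n
  · exfalso
    apply hP
    have := QuaternionGroup.quaternionGroup_one_isCyclic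
    rw [pow_zero] at e
    exact e.isCyclic.mpr this
  let m := 2 ^ (n + 1)
  let i : QuaternionGroup m := QuaternionGroup.a ((2 ^ n : ℕ) : ZMod (2 * m))
  let j : QuaternionGroup m := QuaternionGroup.xa 0
  have hm : ((2 ^ n : ℕ) : ZMod (2 * m)) + ((2 ^ n : ℕ) : ZMod (2 * m)) = (m : ZMod (2 * m)) := by
    rw [← Nat.cast_add]; congr 1; simp only [m]; ring
  have hcomm : i * j = QuaternionGroup.a (m : ZMod (2 * m)) * (j * i) := by
    simp only [i, j, QuaternionGroup.a_mul_xa, QuaternionGroup.xa_mul_a]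
    rw [← hm]
    congr 1
    ring
  have ha : QuaternionGroup.a (m : ZMod (2 * m)) ≠ 1 := by
    rw [QuaternionGroup.one_def, Ne, QuaternionGroup.a.injEq, ZMod.natCast_eq_zero_iff]
    exact fun h => absurd (Nat.le_of_dvd (Nat.two_pow_pos _) h)
      (not_le.mpr (lt_mul_of_one_lt_left (Nat.two_pow_pos _) one_lt_two))
  have ha2 : QuaternionGroup.a (m : ZMod (2 * m)) * QuaternionGroup.a (m : ZMod (2 * m)) = 1 := by
    rw [QuaternionGroup.a_mul_a, QuaternionGroup.one_def, QuaternionGroup.a.injEq,
      ← Nat.cast_add, ← two_mul, ZMod.natCast_self]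
  let g : QuaternionGroup m →* L := H.subtype.comp ((P : Subgroup H).subtype.comp e.symm.toMonoidHom)
  have hg : Function.Injective g :=
    H.subtype_injective.comp ((P : Subgroup H).subtype_injective.comp e.symm.injective)
  have hst : g i * g j * (g i)⁻¹ * (g j)⁻¹ = g (QuaternionGroup.a (m : ZMod (2 * m))) := by
    rw [← map_inv, ← map_inv, ← map_mul, ← map_mul, ← map_mul, hcomm]
    congr 1
    group
  refine card_kernel_odd_square hH (s := g i) (t := g j) (SetLike.coe_mem _) (SetLike.coe_mem _)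
    ?_ ?_
  · rw [hst]; exact fun h => ha (hg (h.trans (map_one g).symm))
  · rw [hst, ← map_mul, ha2, map_one]

/-- A homomorphism out of a quaternion group. -/
theorem exists_quaternion_hom {M : Type*} [Group M] {n : ℕ} [NeZero n] (u v : M)
    (hu : u ^ (2 * n) = 1) (hv : v * v = u ^ n) (huv : u * v = v * u⁻¹) :
    ∃ φ : QuaternionGroup n →* M, φ (QuaternionGroup.a 1) = u ∧
      φ (QuaternionGroup.xa 0) = v := by
  let z : ZMod (2 * n) → M := fun i => u ^ i.val
  have hzadd : ∀ i j, z (i + j) = z i * z j := fun i j => by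
    simp only [z, ← pow_add, ZMod.val_add]
    exact (pow_eq_pow_mod _ hu).symm
  have hz0 : z 0 = 1 := by simp [z]
  have hzneg : ∀ i, z (-i) = (z i)⁻¹ := fun i =>
    eq_inv_of_mul_eq_one_left (by rw [← hzadd, neg_add_cancel, hz0])
  have hzn : z (n : ZMod (2 * n)) = u ^ n := by
    simp only [z, ZMod.val_natCast]
    exact (pow_eq_pow_mod _ hu).symm
  have hzv : ∀ i, z i * v = v * z (-i) := by
    intro i
    rw [hzneg]
    simp only [z]
    rw [← inv_pow]
    induction i.val with
    | zero => simp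
    | succ k ih => rw [pow_succ, mul_assoc, huv, ← mul_assoc, ih, mul_assoc, pow_succ]
  let f : QuaternionGroup n → M := fun x => match x with
    | .a i => z i
    | .xa i => v * z i
  refine ⟨MonoidHom.mk' f ?_, ?_, ?_⟩
  · rintro (i | i) (j | j)
    · exact hzadd i j
    · show v * z (j - i) = z i * (v * z j)
      rw [← mul_assoc, hzv, mul_assoc, ← hzadd, neg_add_eq_sub]
    · show v * z (i + j) = v * z i * z j
      rw [hzadd, mul_assoc]
    · show z ((n : ZMod (2 * n)) + j - i) = v * z i * (v * z j)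
      rw [mul_assoc, ← mul_assoc (z i), hzv, mul_assoc v, ← mul_assoc, hv, ← hzn, ← hzadd, ← hzadd]
      congr 1
      ring
  · show u ^ (1 : ZMod (2 * n)).val = u
    rw [show (1 : ZMod (2 * n)) = ((1 : ℕ) : ZMod (2 * n)) from Nat.cast_one.symm, ZMod.val_natCast,
      ← pow_eq_pow_mod _ hu, pow_one]
  · show v * z 0 = v
    rw [hz0, mul_one]

/-- Quaternion complements with kernel of any odd square order. -/
theorem exists_quaternion_complement {k : ℕ} (hk : Odd k) (hk1 : 1 < k) :
    ∃ (L : Type) (_ : Group L) (_ : Finite L) (H : Subgroup L), Cfsg.IsFrobeniusComplement H ∧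
      Nonempty (H ≃* QuaternionGroup 2) ∧ Nat.card (Cfsg.frobeniusKernel H) = k * k := by
  classical
  let l := k.primeFactorsList
  let pr : Fin l.length → ℕ := fun i => l[i]
  have hpr : ∀ i, (pr i).Prime := fun i => Nat.prime_of_mem_primeFactorsList (List.getElem_mem _)
  have hpr2 : ∀ i, pr i ≠ 2 := fun i e => by
    have h := Nat.dvd_of_mem_primeFactorsList (List.getElem_mem (l := l) i.2)
    rw [show l[(i : ℕ)] = 2 from e] at h
    exact Nat.not_even_iff_odd.mpr hk (even_iff_two_dvd.mpr h)
  have hab : ∀ i, ∃ a b : ZMod (pr i), a ^ 2 + b ^ 2 = -1 := fun i =>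
    have := Fact.mk (hpr i)
    ZMod.sq_add_sq (pr i) (-1)
  choose A B hAB using hab
  have : ∀ i, NeZero (pr i) := fun i => ⟨(hpr i).ne_zero⟩
  have : ∀ i, Fact (pr i).Prime := fun i => Fact.mk (hpr i)
  let I : (∀ i, ZMod (pr i) × ZMod (pr i)) ≃+ (∀ i, ZMod (pr i) × ZMod (pr i)) :=
    { toFun := fun f i => (-(f i).2, (f i).1)
      invFun := fun f i => ((f i).2, -(f i).1)
      left_inv := fun f => by funext i; simp
      right_inv := fun f => by funext i; simp
      map_add' := fun f g => by funext i; simp [add_comm] }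
  let J : (∀ i, ZMod (pr i) × ZMod (pr i)) ≃+ (∀ i, ZMod (pr i) × ZMod (pr i)) :=
    { toFun := fun f i => (A i * (f i).1 + B i * (f i).2, B i * (f i).1 - A i * (f i).2)
      invFun := fun f i =>
        (-(A i * (f i).1 + B i * (f i).2), -(B i * (f i).1 - A i * (f i).2))
      left_inv := fun f => by
        funext i
        ext
        · simp only; linear_combination -(f i).1 * hAB i
        · simp only; linear_combination -(f i).2 * hAB i
      right_inv := fun f => by
        funext i
        ext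
        · simp only; linear_combination -(f i).1 * hAB i
        · simp only; linear_combination -(f i).2 * hAB i
      map_add' := fun f g => by funext i; simp [mul_add]; constructor <;> ring }
  let u : MulAut (Multiplicative (∀ i, ZMod (pr i) × ZMod (pr i))) := AddEquiv.toMultiplicative I
  let v : MulAut (Multiplicative (∀ i, ZMod (pr i) × ZMod (pr i))) := AddEquiv.toMultiplicative J
  have hu2 : ∀ x : Multiplicative (∀ i, ZMod (pr i) × ZMod (pr i)), (u * u) x = x⁻¹ := fun x => by
    apply Multiplicative.toAdd.injective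
    show I (I x.toAdd) = -x.toAdd
    funext i
    ext <;> simp [I]
  have hv2 : ∀ x : Multiplicative (∀ i, ZMod (pr i) × ZMod (pr i)), (v * v) x = x⁻¹ := fun x => by
    apply Multiplicative.toAdd.injective
    show J (J x.toAdd) = -x.toAdd
    funext i
    ext
    · simp only [J, AddEquiv.coe_mk, Equiv.coe_fn_mk, Pi.neg_apply, Prod.fst_neg]
      linear_combination (x.toAdd i).1 * hAB i
    · simp only [J, AddEquiv.coe_mk, Equiv.coe_fn_mk, Pi.neg_apply, Prod.snd_neg]
      linear_combination (x.toAdd i).2 * hAB i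
  have hu : u ^ (2 * 2) = 1 := MulEquiv.ext fun x => by
    rw [pow_mul, pow_two u, pow_two, MulAut.mul_apply, hu2, hu2, inv_inv]
    rfl
  have hv : v * v = u ^ 2 := MulEquiv.ext fun x => by rw [hv2, pow_two, hu2]
  have huv : u * v = v * u⁻¹ := MulEquiv.ext fun x => by
    apply Multiplicative.toAdd.injective
    show I (J x.toAdd) = J (I.symm x.toAdd)
    funext i
    ext
    · simp [I, J]; ring
    · simp [I, J]; ring
  obtain ⟨φ, hφa, hφx⟩ := exists_quaternion_hom (n := 2) u v hu hv huv
  have hodd2 : ∀ x : Multiplicative (∀ i, ZMod (pr i) × ZMod (pr i)), x⁻¹ = x → x = 1 := fun x hx => by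
    apply Multiplicative.toAdd.injective
    have hx' : -x.toAdd = x.toAdd := congrArg Multiplicative.toAdd hx
    funext i
    have hne : (2 : ZMod (pr i)) ≠ 0 := fun e => by
      have e' : ((2 : ℕ) : ZMod (pr i)) = 0 := by exact_mod_cast e
      rw [ZMod.natCast_eq_zero_iff] at e'
      exact hpr2 i ((Nat.prime_dvd_prime_iff_eq (hpr i) Nat.prime_two).mp e')
    have h1 := congrArg Prod.fst (congrFun hx' i)
    have h2 := congrArg Prod.snd (congrFun hx' i)
    simp only [Pi.neg_apply, Prod.fst_neg, Prod.snd_neg] at h1 h2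
    ext
    · exact (mul_eq_zero.mp (show (2 : ZMod (pr i)) * (x.toAdd i).1 = 0 by
        linear_combination (-1 : ZMod (pr i)) * h1)).resolve_left hne
    · exact (mul_eq_zero.mp (show (2 : ZMod (pr i)) * (x.toAdd i).2 = 0 by
        linear_combination (-1 : ZMod (pr i)) * h2)).resolve_left hne
  have hne : l.length ≠ 0 := by
    intro e
    have hnil : k.primeFactorsList = [] := List.eq_nil_of_length_eq_zero e
    rcases (Nat.primeFactorsList_eq_nil _).mp hnil with h | h <;> omega
  have : Nonempty (Fin l.length) := ⟨⟨0, Nat.pos_of_ne_zero hne⟩⟩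
  have : Nontrivial (∀ i, ZMod (pr i) × ZMod (pr i)) :=
    Pi.nontrivial_at ⟨0, Nat.pos_of_ne_zero hne⟩
  have hfree : ∀ g : QuaternionGroup 2, g ≠ 1 → ∀ x, φ g x = x → x = 1 := by
    have hdec : ∀ g : QuaternionGroup 2, g ≠ 1 →
        g = QuaternionGroup.a 1 * QuaternionGroup.a 1 ∨
        g * g = QuaternionGroup.a 1 * QuaternionGroup.a 1 := by decide
    intro g hg x hx
    apply hodd2
    rw [← hu2, ← hφa, ← map_mul]
    rcases hdec g hg with h | h
    · rw [← h, hx]
    · rw [← h, map_mul, MulAut.mul_apply, hx, hx]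
  obtain ⟨L, i1, i2, H, hH, ⟨e⟩, hcard⟩ := exists_isFrobeniusComplement_of_hom φ hfree
  refine ⟨L, i1, i2, H, hH, ⟨e.symm⟩, ?_⟩
  rw [hcard, Nat.card_congr Multiplicative.toAdd, Nat.card_pi]
  simp only [Nat.card_prod, Nat.card_zmod, Finset.prod_mul_distrib]
  have hp : ∏ i, pr i = k := by
    rw [← List.prod_ofFn]
    exact (congrArg List.prod List.ofFn_getElem).trans
      (Nat.prod_primeFactorsList (by omega))
  rw [hp]

end Cfsg.Agent.Lib.Frobenius
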